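import Cfsg.Agent.Ru900.SignDef
import Cfsg.Agent.Ru900.Data3

/-!
Sign stage for the minimal vectors of the Rudvalis lattice: kernel checks of the words (parts 2 and 3).
-/

set_option autoImplicit false
set_option maxRecDepth 100000
set_option exponentiation.threshold 600000

namespace Cfsg.Agent.Ru900.SignB

open Cfsg.Agent.Ru900.Pack Cfsg.Agent.Ru900.SignDef Cfsg.Agent.Ru900.Data3

theorem ok2 : allL SL2 wordOK = true := by decide +kernel
theorem ok3 : allL SL3 wordOK = true := by decide +kernel

end Cfsg.Agent.Ru900.SignB
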