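import Cfsg.Agent.Ru900.SignA
import Cfsg.Agent.Ru900.SignB

/-!
The vectors of norm 16 of the Rudvalis lattice are the multiples by `1, i, -1, -i` of the 4060 vectors `RuLat.vec`.
-/

set_option autoImplicit false
set_option maxRecDepth 100000
set_option exponentiation.threshold 600000
set_option maxHeartbeats 400000

namespace Cfsg.Agent.Ru900.Min

open Cfsg.Spor Cfsg.Agent.Ru900.Coord Cfsg.Agent.Ru900.Pack Cfsg.Agent.Ru900.Data Cfsg.Agent.Ru900.Lat
  Cfsg.Agent.Ru900.Eq Cfsg.Agent.Ru900.TT Cfsg.Agent.Ru900.Data2 Cfsg.Agent.Ru900.Scan Cfsg.Agent.Ru900.Sig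
  Cfsg.Agent.Ru900.Short Cfsg.Agent.Ru900.Words Cfsg.Agent.Ru900.SignDef Cfsg.Agent.Ru900.Data3
  Cfsg.Agent.Ru900.SignA Cfsg.Agent.Ru900.SignB

/-! ### the entries cover all consistent words -/

/-- mask of the messages of a list of entries -/
noncomputable def ym (l : List ℕ) : ℕ → ℕ :=
  List.rec (motive := fun _ => ℕ → ℕ) (fun a => a)
    (fun E _ ih a => strict (Nat.lor a (Nat.shiftLeft 1 (Nat.land E 524287))) (fun a' => ih a')) l

theorem ym_spec (l : List ℕ) (a y : ℕ) (h : (ym l a).testBit y = true) :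
    a.testBit y = true ∨ ∃ E ∈ l, E % 524288 = y := by
  induction l generalizing a with
  | nil => exact Or.inl h
  | cons E l ih =>
    have e : ym (E :: l) a = strict (Nat.lor a (Nat.shiftLeft 1 (Nat.land E 524287))) (fun a' => ym l a') := rfl
    rw [e, strict_eq] at h
    rcases ih _ h with h1 | ⟨E', hE', h1⟩
    · have h2 : (a ||| (1 <<< (Nat.land E 524287))).testBit y = true := h1
      rw [Nat.testBit_or, Bool.or_eq_true] at h2
      rcases h2 with h2 | h2
      · exact Or.inl h2
      · right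
        refine ⟨E, List.mem_cons_self, ?_⟩
        rw [Nat.one_shiftLeft, Nat.testBit_two_pow] at h2
        have h3 : Nat.land E 524287 = y := by simpa using h2
        have h4 : Nat.land E 524287 = E % 524288 := Nat.and_two_pow_sub_one_eq_mod E 19
        rw [← h4, h3]
    · exact Or.inr ⟨E', List.mem_cons_of_mem _ hE', h1⟩

/-- all messages -/
noncomputable def YM : ℕ := ym SL3 (ym SL2 (ym SL1 (ym SL0 0)))

theorem YM_spec (y : ℕ) (h : YM.testBit y = true) : ∃ E, wordOK E = true ∧ E % 524288 = y := by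
  rcases ym_spec _ _ _ h with h | ⟨E, hE, h1⟩
  · rcases ym_spec _ _ _ h with h | ⟨E, hE, h1⟩
    · rcases ym_spec _ _ _ h with h | ⟨E, hE, h1⟩
      · rcases ym_spec _ _ _ h with h | ⟨E, hE, h1⟩
        · rw [Nat.zero_testBit] at h
          exact absurd h (by simp)
        · exact ⟨E, allL_spec ok0 E hE, h1⟩
      · exact ⟨E, allL_spec ok1 E hE, h1⟩
    · exact ⟨E, allL_spec ok2 E hE, h1⟩
  · exact ⟨E, allL_spec ok3 E hE, h1⟩

theorem chk_cov : strict YM (fun Y => allR (fun y => cond (Nat.beq (Nat.land (Nat.shiftRight Y y) 1) 0)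
    (strict (sel Gc y) (fun c => cond (Nat.beq (pc 56 c) 16) (incons c) true)) true) 19 W16 0) = true := by
  decide +kernel

attribute [local irreducible] pc sel cm fm incons sigl

theorem odd16 {x : RuVec} (hx : x ∈ M) (hn : ruNorm x ≤ 16) (hc : pc 56 (cm x) = 16)
    (h : ∀ q < 56, crd x q = if (cm x).testBit q then (if (fm x).testBit q then -1 else 1) else 0) :
    ∃ i e, i < 4096 ∧ e < 4 ∧ RuLat.frameMask.testBit i = false ∧ x = gI ^ e • RuLat.vec i := by
  obtain ⟨y, hy, hcy, hW⟩ := mem_W16 hx hn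
  have h1 := chk_cov
  rw [strict_eq] at h1
  have h2 := allR_spec h1 y hy hW
  rw [zero_add, beq_land] at h2
  cases hY : YM.testBit y with
  | true =>
    obtain ⟨E, hE, hEy⟩ := YM_spec y hY
    exact wordOK_spec hE hx h (by rw [hEy]; exact hcy)
  | false =>
    exfalso
    rw [hY, Bool.not_false, cond_true, strict_eq] at h2
    rw [← hcy] at h2
    have h4 : Nat.beq (pc 56 (cm x)) 16 = true := by rw [hc]; rfl
    rw [h4, cond_true] at h2
    exact incons_spec h2 (fm_sub h) (sel_eq_sigl cols_c hx)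

/-! ### the frame -/

/-- unscaled line vector -/
def uv (i : ℕ) : RuVec := fun q => RuLat.uent i (RuLat.cn q)

theorem rep_uv (i : ℕ) : Rep (uv i) (lcC i) (lcF i) := by
  have key : ∀ p < 28, crd (uv i) (2 * p) =
      (if (RuLat.pR p).testBit i then (if (RuLat.pS p).testBit i then -1 else 1) else 0) ∧
      crd (uv i) (2 * p + 1) = (if (RuLat.pI p).testBit i then (if (RuLat.pS p).testBit i then -1 else 1) else 0) := by
    intro p hp
    have h1 : p / 4 < 7 := by omega
    have h2 : p % 4 < 4 := by omega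
    have e1 : 2 * p = 8 * (⟨p / 4, h1⟩ : Fin 7).val + 2 * (⟨p % 4, h2⟩ : Fin 4).val := by
      show 2 * p = 8 * (p / 4) + 2 * (p % 4); omega
    have e2 : 4 * (⟨p / 4, h1⟩ : Fin 7).val + (⟨p % 4, h2⟩ : Fin 4).val = p := by
      show 4 * (p / 4) + p % 4 = p; omega
    have e3 : uv i (⟨p / 4, h1⟩, ⟨p % 4, h2⟩) = RuLat.uent i p := by
      show RuLat.uent i (4 * (p / 4) + p % 4) = _
      congr 1
    rw [e1, crd_re, crd_im, e3]
    exact ⟨rfl, rfl⟩
  intro q hq
  rcases Nat.even_or_odd' q with ⟨p, hp | hp⟩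
  · subst hp
    have hp' : p < 28 := by omega
    rw [(key p hp').1, (lcC_bits i p hp').1, (lcF_bits i p hp').1]
    cases (RuLat.pR p).testBit i <;> cases (RuLat.pS p).testBit i <;> rfl
  · subst hp
    have hp' : p < 28 := by omega
    rw [(key p hp').2, (lcC_bits i p hp').2, (lcF_bits i p hp').2]
    cases (RuLat.pI p).testBit i <;> cases (RuLat.pS p).testBit i <;> rfl

theorem vec_frame (i : ℕ) (hi : RuLat.frameMask.testBit i = true) : RuLat.vec i = (4 : ℤ) • uv i := by
  have hs : RuLat.scale i = 4 := by unfold RuLat.scale; rw [hi]; rfl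
  funext q
  show RuLat.scale i * RuLat.uent i (RuLat.cn q) = (4 : ℤ) • RuLat.uent i (RuLat.cn q)
  rw [hs, zsmul_eq_mul]
  rfl

theorem chk_FT : allI FT (fun k E => cond (Nat.blt (Nat.land E 4095) 4060)
    (cond (Nat.beq (Nat.land (Nat.shiftRight RuLat.frameMask (Nat.land E 4095)) 1) 0) false
      (Nat.beq (strict (lcC (Nat.land E 4095)) (fun c0 => strict (lcF (Nat.land E 4095)) (fun f0 =>
        um (Nat.land (Nat.shiftRight E 12) 3) c0 f0 (fun c' f' =>
          cond (Nat.beq c' (Nat.shiftLeft 1 (Nat.shiftRight k 1)))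
            (cond (Nat.beq (Nat.land f' c') (Nat.shiftLeft (Nat.land k 1) (Nat.shiftRight k 1))) 1 0) 0)))) 1))
      false) 0 = true := by
  decide +kernel

theorem frame_case {x : RuVec} {q s : ℕ} (hq : q < 56) (hs : s < 2)
    (hx : ∀ r < 56, crd x r = if r = q then (if s = 1 then -4 else 4) else 0) :
    ∃ i e, i < 4060 ∧ e < 4 ∧ x = gI ^ e • RuLat.vec i := by
  have hl : FT.length = 112 := rfl
  have h := allI_spec chk_FT (2 * q + s) (by rw [hl]; omega)
  rw [zero_add] at h
  generalize FT.getD (2 * q + s) 0 = E at h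
  obtain ⟨h1, h⟩ := and_of_cond h
  have hi : Nat.land E 4095 < 4060 := Nat.le_of_ble_eq_true h1
  rw [beq_land, strict_eq, strict_eq] at h
  have hk1 : Nat.shiftRight (2 * q + s) 1 = q := by
    have : Nat.shiftRight (2 * q + s) 1 = (2 * q + s) / 2 := Nat.shiftRight_eq_div_pow _ 1
    rw [this]; omega
  have hk2 : Nat.land (2 * q + s) 1 = s := by rw [land_1]; omega
  rw [hk1, hk2] at h
  cases hf : RuLat.frameMask.testBit (Nat.land E 4095) with
  | false => rw [hf] at h; exact absurd h (by simp)
  | true =>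
    rw [hf, Bool.not_true, cond_false] at h
    have h2 := Nat.eq_of_beq_eq_true h
    obtain ⟨c', f', hr, hu⟩ := um_spec (Nat.land (Nat.shiftRight E 12) 3) (uv (Nat.land E 4095))
      (lcC (Nat.land E 4095)) (lcF (Nat.land E 4095)) (fun c' f' =>
          cond (Nat.beq c' (Nat.shiftLeft 1 q))
            (cond (Nat.beq (Nat.land f' c') (Nat.shiftLeft s q)) 1 0) 0) (rep_uv _)
    rw [hu] at h2
    have hc : c' = 1 <<< q := by
      cases hh : Nat.beq c' (Nat.shiftLeft 1 q) with
      | true => exact Nat.eq_of_beq_eq_true hh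
      | false => rw [hh, cond_false] at h2; exact absurd h2 (by norm_num)
    have hff : f' &&& c' = s <<< q := by
      cases hh : Nat.beq (Nat.land f' c') (Nat.shiftLeft s q) with
      | true => exact Nat.eq_of_beq_eq_true hh
      | false =>
        rw [hh, cond_false] at h2
        cases hh2 : Nat.beq c' (Nat.shiftLeft 1 q) <;> rw [hh2] at h2 <;> exact absurd h2 (by norm_num)
    refine ⟨Nat.land E 4095, Nat.land (Nat.shiftRight E 12) 3, hi, ?_, ?_⟩
    · have : Nat.land (Nat.shiftRight E 12) 3 = Nat.shiftRight E 12 % 4 := Nat.and_two_pow_sub_one_eq_mod _ 2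
      rw [this]; exact Nat.mod_lt _ (by norm_num)
    · rw [vec_frame _ hf, smul_comm]
      apply ext_crd
      intro r hr'
      rw [crd_zsmul, hr r hr', hx r hr', hc, Nat.one_shiftLeft, Nat.testBit_two_pow]
      by_cases hrq : r = q
      · subst hrq
        have hb : f'.testBit r = (s <<< r).testBit r := by
          rw [← hff, Nat.testBit_and, hc, Nat.one_shiftLeft, Nat.testBit_two_pow]
          simp
        rw [Nat.testBit_shiftLeft] at hb
        simp only [ge_iff_le, le_refl, decide_true, Nat.sub_self, Bool.true_and, Nat.testBit_zero] at hb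
        rw [hb]
        interval_cases s <;> simp
      · have : ¬ (q = r) := fun h => hrq h.symm
        simp [hrq, this]

/-- **the minimal vectors** -/
theorem minimal {x : RuVec} (hx : x ∈ ruLattice) (hn : ruNorm x = 16) :
    ∃ i < 4060, ∃ e < 4, x = gI ^ e • RuLat.vec i := by
  rw [ruLattice_eq] at hx
  rcases short hx (le_of_eq hn) with h | ⟨q, hq, hv, hz⟩ | ⟨hc, h⟩
  · rw [h, ruNorm_eq_rip, rip_zero_left] at hn
    exact absurd hn (by norm_num)
  · rcases hv with hv | hv
    · obtain ⟨i, e, hi, he, h⟩ := frame_case (x := x) hq (show 0 < 2 by norm_num) (fun r hr => by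
        by_cases hrq : r = q
        · subst hrq; simp [hv]
        · simp [hrq, hz r hr hrq])
      exact ⟨i, hi, e, he, h⟩
    · obtain ⟨i, e, hi, he, h⟩ := frame_case (x := x) hq (show 1 < 2 by norm_num) (fun r hr => by
        by_cases hrq : r = q
        · subst hrq; simp [hv]
        · simp [hrq, hz r hr hrq])
      exact ⟨i, hi, e, he, h⟩
  · obtain ⟨i, e, hi, he, hf, hxe⟩ := odd16 hx (le_of_eq hn) hc h
    refine ⟨i, ?_, e, he, hxe⟩
    by_contra hge
    -- lines with index at least 4060 are zero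
    have hz : RuLat.vec i = 0 := by
      have hb : ∀ t ∈ RuLat.planes, t.1 < 2 ^ 4060 ∧ t.2.1 < 2 ^ 4060 := by decide +kernel
      funext q
      have hu : RuLat.uent i (RuLat.cn q) = 0 := by
        have hmem : RuLat.planes.getD (RuLat.cn q) (0, 0, 0) ∈ RuLat.planes := by
          have hlt : RuLat.cn q < RuLat.planes.length := by
            rw [planes_len]
            unfold RuLat.cn
            have := q.1.isLt; have := q.2.isLt
            omega
          rw [List.getD_eq_getElem _ _ hlt]
          exact List.getElem_mem hlt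
        obtain ⟨h1, h2⟩ := hb _ hmem
        have e1 : (RuLat.pR (RuLat.cn q)).testBit i = false :=
          Nat.testBit_lt_two_pow (lt_of_lt_of_le h1 (Nat.pow_le_pow_right (by norm_num) (by omega)))
        have e2 : (RuLat.pI (RuLat.cn q)).testBit i = false :=
          Nat.testBit_lt_two_pow (lt_of_lt_of_le h2 (Nat.pow_le_pow_right (by norm_num) (by omega)))
        unfold RuLat.uent
        rw [e1, e2]
        rfl
      show RuLat.scale i * RuLat.uent i (RuLat.cn q) = 0
      rw [hu, mul_zero]
    rw [hxe, hz, smul_zero, ruNorm_eq_rip, rip_zero_left] at hn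
    exact absurd hn (by norm_num)

end Cfsg.Agent.Ru900.Min
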