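import Mathlib
import Cfsg.Prelude.Def_Spor_Ru

/-!
Real coordinates of the vectors of `Def_Spor_Ru`: 56 integers per vector, coordinate `8 n + 2 t` resp.
`8 n + 2 t + 1` is the real resp. imaginary part of the entry `(n, t)`. Vectors with coordinates in `[-8, 7]`
are coded as natural numbers with 56 hexadecimal digits (digit = coordinate + 8).
-/

set_option autoImplicit false

namespace Cfsg.Agent.Ru900.Coord

open Cfsg.Spor

/-- the `q`-th real coordinate -/
def crd (v : RuVec) (q : ℕ) : ℤ :=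
  bif Nat.beq (q % 2) 0 then (v (Fin.ofNat 7 (q / 8), Fin.ofNat 4 (q % 8 / 2))).re
  else (v (Fin.ofNat 7 (q / 8), Fin.ofNat 4 (q % 8 / 2))).im

theorem crd_add (v w : RuVec) (q : ℕ) : crd (v + w) q = crd v q + crd w q := by
  unfold crd
  cases Nat.beq (q % 2) 0 <;> simp

theorem crd_zero (q : ℕ) : crd 0 q = 0 := by
  unfold crd
  cases Nat.beq (q % 2) 0 <;> simp

theorem crd_neg (v : RuVec) (q : ℕ) : crd (-v) q = -crd v q := by
  unfold crd
  cases Nat.beq (q % 2) 0 <;> simp

theorem crd_sub (v w : RuVec) (q : ℕ) : crd (v - w) q = crd v q - crd w q := by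
  unfold crd
  cases Nat.beq (q % 2) 0 <;> simp

/-- `crd` as an additive map -/
def crdHom (q : ℕ) : RuVec →+ ℤ := ⟨⟨fun v => crd v q, crd_zero q⟩, fun v w => crd_add v w q⟩

theorem crd_zsmul (a : ℤ) (v : RuVec) (q : ℕ) : crd (a • v) q = a * crd v q := by
  have := map_zsmul (crdHom q) a v
  simpa [crdHom] using this

theorem crd_sum {ι : Type*} (s : Finset ι) (f : ι → RuVec) (q : ℕ) :
    crd (∑ i ∈ s, f i) q = ∑ i ∈ s, crd (f i) q :=
  map_sum (crdHom q) f s

theorem crd_re (v : RuVec) (n : Fin 7) (t : Fin 4) : crd v (8 * n.val + 2 * t.val) = (v (n, t)).re := by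
  fin_cases n <;> fin_cases t <;> rfl

theorem crd_im (v : RuVec) (n : Fin 7) (t : Fin 4) : crd v (8 * n.val + 2 * t.val + 1) = (v (n, t)).im := by
  fin_cases n <;> fin_cases t <;> rfl

theorem ext_crd {v w : RuVec} (h : ∀ q < 56, crd v q = crd w q) : v = w := by
  funext p
  obtain ⟨n, t⟩ := p
  have h1 := h (8 * n.val + 2 * t.val) (by omega)
  have h2 := h (8 * n.val + 2 * t.val + 1) (by omega)
  rw [crd_re, crd_re] at h1
  rw [crd_im, crd_im] at h2
  exact Zsqrtd.ext h1 h2

theorem ruNorm_eq (v : RuVec) : ruNorm v = ∑ q ∈ Finset.range 56, crd v q * crd v q := by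
  unfold ruNorm
  rw [Fintype.sum_prod_type]
  simp only [Fin.sum_univ_seven, Fin.sum_univ_four, Finset.sum_range_succ, Finset.sum_range_zero, zero_add]
  simp only [← crd_re, ← crd_im, Zsqrtd.norm]
  have e : ∀ n : Fin 7, ∀ t : Fin 4, True := fun _ _ => trivial
  simp only [show ((0 : Fin 7) : ℕ) = 0 from rfl, show ((1 : Fin 7) : ℕ) = 1 from rfl,
    show ((2 : Fin 7) : ℕ) = 2 from rfl, show ((3 : Fin 7) : ℕ) = 3 from rfl, show ((4 : Fin 7) : ℕ) = 4 from rfl,
    show ((5 : Fin 7) : ℕ) = 5 from rfl, show ((6 : Fin 7) : ℕ) = 6 from rfl,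
    show ((0 : Fin 4) : ℕ) = 0 from rfl, show ((1 : Fin 4) : ℕ) = 1 from rfl,
    show ((2 : Fin 4) : ℕ) = 2 from rfl, show ((3 : Fin 4) : ℕ) = 3 from rfl]
  norm_num only
  ring

/-- real inner product -/
def rip (v w : RuVec) : ℤ := ∑ q ∈ Finset.range 56, crd v q * crd w q

theorem ruNorm_eq_rip (v : RuVec) : ruNorm v = rip v v := ruNorm_eq v

theorem rip_comm (v w : RuVec) : rip v w = rip w v := by
  unfold rip
  exact Finset.sum_congr rfl fun q _ => mul_comm _ _

theorem rip_add_left (u v w : RuVec) : rip (u + v) w = rip u w + rip v w := by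
  unfold rip
  rw [← Finset.sum_add_distrib]
  exact Finset.sum_congr rfl fun q _ => by rw [crd_add]; ring

theorem rip_add_right (u v w : RuVec) : rip u (v + w) = rip u v + rip u w := by
  rw [rip_comm, rip_add_left, rip_comm v, rip_comm w]

theorem rip_zero_left (w : RuVec) : rip 0 w = 0 := by
  unfold rip
  exact Finset.sum_eq_zero fun q _ => by rw [crd_zero]; ring

theorem rip_zero_right (w : RuVec) : rip w 0 = 0 := by rw [rip_comm, rip_zero_left]

theorem rip_neg_left (v w : RuVec) : rip (-v) w = -rip v w := by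
  unfold rip
  rw [← Finset.sum_neg_distrib]
  exact Finset.sum_congr rfl fun q _ => by rw [crd_neg]; ring

theorem rip_neg_right (v w : RuVec) : rip v (-w) = -rip v w := by
  rw [rip_comm, rip_neg_left, rip_comm w]

theorem rip_sub_left (u v w : RuVec) : rip (u - v) w = rip u w - rip v w := by
  rw [sub_eq_add_neg, rip_add_left, rip_neg_left]; ring

/-- `rip` as an additive map in the first argument -/
def ripHom (w : RuVec) : RuVec →+ ℤ := ⟨⟨fun v => rip v w, rip_zero_left w⟩, fun u v => rip_add_left u v w⟩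

theorem rip_zsmul_left (a : ℤ) (v w : RuVec) : rip (a • v) w = a * rip v w := by
  have := map_zsmul (ripHom w) a v
  simpa [ripHom] using this

theorem rip_zsmul_right (a : ℤ) (v w : RuVec) : rip v (a • w) = a * rip v w := by
  rw [rip_comm, rip_zsmul_left, rip_comm]

theorem rip_sum_left {ι : Type*} (s : Finset ι) (f : ι → RuVec) (w : RuVec) :
    rip (∑ i ∈ s, f i) w = ∑ i ∈ s, rip (f i) w :=
  map_sum (ripHom w) f s

theorem ruNorm_add (v w : RuVec) : ruNorm (v + w) = ruNorm v + ruNorm w + 2 * rip v w := by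
  rw [ruNorm_eq_rip, ruNorm_eq_rip, ruNorm_eq_rip, rip_add_left, rip_add_right, rip_add_right, rip_comm w v]
  ring

theorem ruNorm_neg (v : RuVec) : ruNorm (-v) = ruNorm v := by
  rw [ruNorm_eq_rip, ruNorm_eq_rip, rip_neg_left, rip_neg_right]; ring

theorem ruNorm_zsmul (a : ℤ) (v : RuVec) : ruNorm (a • v) = a * a * ruNorm v := by
  rw [ruNorm_eq_rip, ruNorm_eq_rip, rip_zsmul_left, rip_zsmul_right]; ring

theorem ruNorm_nonneg (v : RuVec) : 0 ≤ ruNorm v := by
  rw [ruNorm_eq]
  exact Finset.sum_nonneg fun q _ => mul_self_nonneg _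

theorem eq_zero_of_ruNorm {v : RuVec} (h : ruNorm v = 0) : v = 0 := by
  rw [ruNorm_eq] at h
  have h1 := (Finset.sum_eq_zero_iff_of_nonneg (fun q _ => mul_self_nonneg (crd v q))).1 h
  apply ext_crd
  intro q hq
  rw [crd_zero]
  have := h1 q (Finset.mem_range.2 hq)
  exact mul_self_eq_zero.1 this

/-! ### codes -/

/-- the `q`-th hexadecimal digit -/
def dig (n q : ℕ) : ℕ := n / 16 ^ q % 16

/-- the vector with code `n` -/
def vec (n : ℕ) : RuVec := fun p =>
  ⟨(dig n (8 * p.1.val + 2 * p.2.val) : ℤ) - 8, (dig n (8 * p.1.val + 2 * p.2.val + 1) : ℤ) - 8⟩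

theorem crd_vec (n q : ℕ) (hq : q < 56) : crd (vec n) q = (dig n q : ℤ) - 8 := by
  interval_cases q <;> rfl

end Cfsg.Agent.Ru900.Coord
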