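import Cfsg.Agent.Ru900.Lat

/-!
`ruLattice = M`; inner products are divisible by 4 and norms by 8.
-/

set_option autoImplicit false
set_option maxRecDepth 100000

namespace Cfsg.Agent.Ru900.Eq

open Cfsg.Spor Cfsg.Agent.Ru900.Coord Cfsg.Agent.Ru900.Pack Cfsg.Agent.Ru900.Data Cfsg.Agent.Ru900.Lat

/-! ### the operations are additive -/

theorem opV_add (o : ℕ) (ho : o < 5) (v w : RuVec) : opV o (v + w) = opV o v + opV o w := by
  apply ext_crd
  intro q hq
  rw [crd_add, crd_opV o ho _ q hq, crd_opV o ho _ q hq, crd_opV o ho _ q hq, crd_add]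
  cases Nat.testBit ((tab o).getD q 0) 0 with
  | true => simp only [cond_true]; ring
  | false => rfl

theorem opV_zero (o : ℕ) (ho : o < 5) : opV o 0 = 0 := by
  apply ext_crd
  intro q hq
  rw [crd_zero, crd_opV o ho _ q hq, crd_zero]
  cases Nat.testBit ((tab o).getD q 0) 0 <;> rfl

/-- operations as additive maps -/
def opHom (o : ℕ) (ho : o < 5) : RuVec →+ RuVec := ⟨⟨opV o, opV_zero o ho⟩, opV_add o ho⟩

theorem mem_ops (L : AddSubgroup RuVec) (v : RuVec) :
    (gI • v ∈ L ∧ ruRj v ∈ L ∧ ruRk v ∈ L ∧ ruSign v ∈ L ∧ ruShift v ∈ L) ↔ ∀ o < 5, opV o v ∈ L := by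
  constructor
  · rintro ⟨h0, h1, h2, h3, h4⟩ o ho
    interval_cases o
    exacts [h0, h1, h2, h3, h4]
  · intro h
    exact ⟨h 0 (by norm_num), h 1 (by norm_num), h 2 (by norm_num), h 3 (by norm_num), h 4 (by norm_num)⟩

/-! ### `M` contains the table and is closed under the operations -/

theorem chk_op : allL Bc (fun x => cond (nz x)
    (cond (memT (opN (tab 0) x)) (cond (memT (opN (tab 1) x)) (cond (memT (opN (tab 2) x))
      (cond (memT (opN (tab 3) x)) (memT (opN (tab 4) x)) false) false) false) false) false) = true := by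
  decide +kernel

theorem and_of_cond {a b : Bool} (h : cond a b false = true) : a = true ∧ b = true := by
  cases a with
  | false => exact absurd h (by simp)
  | true => exact ⟨rfl, h⟩

theorem opB_mem (k : ℕ) (hk : k < 56) (o : ℕ) (ho : o < 5) : opV o (Bv k) ∈ M := by
  have h := allL_spec chk_op _ (getD_mem (l := Bc) (k := k) hk)
  obtain ⟨hn, h⟩ := and_of_cond h
  obtain ⟨h0, h⟩ := and_of_cond h
  obtain ⟨h1, h⟩ := and_of_cond h
  obtain ⟨h2, h⟩ := and_of_cond h
  obtain ⟨h3, h4⟩ := and_of_cond h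
  rw [Bv, ← vec_opN o ho _ hn]
  interval_cases o
  exacts [mem_of_memT h0, mem_of_memT h1, mem_of_memT h2, mem_of_memT h3, mem_of_memT h4]

theorem op_mem {v : RuVec} (hv : v ∈ M) (o : ℕ) (ho : o < 5) : opV o v ∈ M := by
  obtain ⟨c, rfl⟩ := exists_coeff hv
  have : opV o (∑ k ∈ Finset.range 56, c k • Bv k) = ∑ k ∈ Finset.range 56, c k • opV o (Bv k) := by
    have := map_sum (opHom o ho) (fun k => c k • Bv k) (Finset.range 56)
    simp only [map_zsmul] at this
    exact this
  rw [this]
  exact AddSubgroup.sum_mem _ fun k hk => AddSubgroup.zsmul_mem _ (opB_mem k (Finset.mem_range.1 hk) o ho) _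

theorem chk_T : allL Tc (fun x => cond (nz x) (memT x) false) = true := by decide +kernel

theorem table_eq : ruTable = Tc.map vec := by decide +kernel

theorem M_closed : M ∈ ruClosed := by
  refine ⟨?_, fun v hv => (mem_ops M v).2 fun o ho => op_mem hv o ho⟩
  rw [table_eq]
  intro v hv
  obtain ⟨x, hx, rfl⟩ := List.mem_map.1 hv
  exact mem_of_memT (and_of_cond (allL_spec chk_T x hx)).2

theorem ruLattice_le : ruLattice ≤ M := sInf_le M_closed

/-! ### the basis lies in the lattice -/

theorem ruLattice_closed : ruLattice ∈ ruClosed := by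
  constructor
  · intro v hv
    rw [ruLattice, AddSubgroup.mem_sInf]
    exact fun L hL => hL.1 v hv
  · intro v hv
    rw [mem_ops]
    intro o ho
    rw [ruLattice, AddSubgroup.mem_sInf] at hv ⊢
    exact fun L hL => (mem_ops L v).1 (hL.2 v (hv L hL)) o ho

theorem op_mem_ruLattice {v : RuVec} (hv : v ∈ ruLattice) (o : ℕ) (ho : o < 5) : opV o v ∈ ruLattice :=
  (mem_ops _ v).1 (ruLattice_closed.2 v hv) o ho

/-- the vectors obtained by words are in the lattice; words are applied from the left -/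
noncomputable def runW (w : List ℕ) : ℕ → ℕ → Bool :=
  List.rec (motive := fun _ => ℕ → ℕ → Bool) (fun x y => Nat.beq x y)
    (fun o _ ih x y => cond (nz x) (cond (Nat.blt o 5) (ih (opN (tab o) x) y) false) false) w

theorem runW_spec {w : List ℕ} {x y : ℕ} (h : runW w x y = true) (hx : vec x ∈ ruLattice) :
    vec y ∈ ruLattice := by
  induction w generalizing x with
  | nil =>
    have : x = y := Nat.eq_of_beq_eq_true h
    rwa [← this]
  | cons o w ih =>
    have h' : cond (nz x) (cond (Nat.blt o 5) (runW w (opN (tab o) x) y) false) false = true := h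
    obtain ⟨hn, h'⟩ := and_of_cond h'
    obtain ⟨ho, h'⟩ := and_of_cond h'
    have ho' : o < 5 := Nat.le_of_ble_eq_true ho
    refine ih h' ?_
    rw [vec_opN o ho' _ hn]
    exact op_mem_ruLattice hx o ho'

/-- check of all words -/
noncomputable def chkW : List (ℕ × List ℕ) → List ℕ → Bool := fun l =>
  List.rec (motive := fun _ => List ℕ → Bool) (fun _ => true)
    (fun p _ ih m => List.rec (motive := fun _ => Bool) false
      (fun y m' _ => cond (Nat.blt p.1 20) (cond (runW p.2 (Tc.getD p.1 0) y) (ih m') false) false) m) l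

theorem chkW_spec {l : List (ℕ × List ℕ)} {m : List ℕ} (h : chkW l m = true) :
    ∀ k < l.length, k < m.length ∧ vec (m.getD k 0) ∈ ruLattice := by
  induction l generalizing m with
  | nil => intro k hk; simp at hk
  | cons p l ih =>
    cases m with
    | nil => exact absurd h (by simp [chkW])
    | cons y m =>
      have h' : cond (Nat.blt p.1 20) (cond (runW p.2 (Tc.getD p.1 0) y) (chkW l m) false) false = true := h
      obtain ⟨h1, h'⟩ := and_of_cond h'
      obtain ⟨h2, h'⟩ := and_of_cond h'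
      have h1' : p.1 < 20 := Nat.le_of_ble_eq_true h1
      intro k hk
      cases k with
      | zero =>
        refine ⟨by simp, ?_⟩
        simp only [List.getD_cons_zero]
        refine runW_spec h2 (ruLattice_closed.1 _ ?_)
        rw [table_eq]
        exact List.mem_map_of_mem (getD_mem (l := Tc) h1')
      | succ k =>
        have := ih h' k (by simpa using hk)
        simpa using this

theorem chk_W : chkW Wc Bc = true := by decide +kernel

theorem B28_mem (k : ℕ) (hk : k < 28) : Bv k ∈ ruLattice := (chkW_spec chk_W k hk).2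

theorem chk_I : allN 28 (fun k => Nat.beq (opN (tab 0) (Bc.getD k 0)) (Bc.getD (Nat.add k 28) 0)) = true := by
  decide +kernel

theorem gI_B (k : ℕ) (hk : k < 28) : opV 0 (Bv k) = Bv (k + 28) := by
  have h := Nat.eq_of_beq_eq_true (allN_spec chk_I k hk)
  have hn := (and_of_cond (allL_spec chk_op _ (getD_mem (l := Bc) (k := k) (by rw [len_B]; omega)))).1
  have h' : opN (tab 0) (Bc.getD k 0) = Bc.getD (k + 28) 0 := h
  rw [Bv, Bv, ← h', vec_opN 0 (by norm_num) _ hn]

theorem B_mem (k : ℕ) (hk : k < 56) : Bv k ∈ ruLattice := by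
  by_cases h : k < 28
  · exact B28_mem k h
  · have e : k = (k - 28) + 28 := by omega
    rw [e, ← gI_B (k - 28) (by omega)]
    exact op_mem_ruLattice (B28_mem _ (by omega)) 0 (by norm_num)

theorem ruLattice_eq : ruLattice = M := by
  apply le_antisymm ruLattice_le
  intro v hv
  obtain ⟨c, rfl⟩ := exists_coeff hv
  exact AddSubgroup.sum_mem _ fun k hk => AddSubgroup.zsmul_mem _ (B_mem k (Finset.mem_range.1 hk)) _

/-! ### integrality -/

theorem chk_gram : allL Bc (fun x => allL Bc (fun y => Nat.beq (Nat.land (dotC 56 x y) 3) 0)) = true := by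
  decide +kernel

theorem chk_norm : allL Bc (fun x => Nat.beq (Nat.land (dotC 56 x x) 7) 0) = true := by decide +kernel

theorem rip_vec_emod (x y : ℕ) : rip (vec x) (vec y) % 8 = (dotC 56 x y : ℤ) % 8 := by
  rw [dotC_eq]
  unfold rip
  push_cast
  rw [Finset.sum_int_mod, Finset.sum_int_mod (Finset.range 56) 8 (fun q => (dig x q : ℤ) * _)]
  congr 1
  refine Finset.sum_congr rfl fun q hq => ?_
  rw [Finset.mem_range] at hq
  rw [crd_vec _ _ hq, crd_vec _ _ hq]
  have e : ((dig x q : ℤ) - 8) * ((dig y q : ℤ) - 8) =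
      (dig x q : ℤ) * (dig y q : ℤ) + 8 * (8 - (dig x q : ℤ) - (dig y q : ℤ)) := by ring
  rw [e, Int.add_mul_emod_self_left]

theorem land_3 (x : ℕ) : Nat.land x 3 = x % 4 := Nat.and_two_pow_sub_one_eq_mod x 2

theorem four_dvd_of (x y : ℕ) (h : Nat.beq (Nat.land (dotC 56 x y) 3) 0 = true) :
    (4 : ℤ) ∣ rip (vec x) (vec y) := by
  have h1 := Nat.eq_of_beq_eq_true h
  have h2 := rip_vec_emod x y
  rw [land_3] at h1
  generalize dotC 56 x y = z at h1 h2
  omega

theorem eight_dvd_of (x y : ℕ) (h : Nat.beq (Nat.land (dotC 56 x y) 7) 0 = true) :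
    (8 : ℤ) ∣ rip (vec x) (vec y) := by
  have h1 := Nat.eq_of_beq_eq_true h
  have h2 := rip_vec_emod x y
  rw [land_7] at h1
  generalize dotC 56 x y = z at h1 h2
  omega

theorem rip_B (k l : ℕ) (hk : k < 56) (hl : l < 56) : (4 : ℤ) ∣ rip (Bv k) (Bv l) :=
  four_dvd_of _ _ (allL_spec (allL_spec chk_gram _ (getD_mem (l := Bc) (k := k) hk)) _
    (getD_mem (l := Bc) (k := l) hl))

theorem norm_B (k : ℕ) (hk : k < 56) : (8 : ℤ) ∣ ruNorm (Bv k) := by
  rw [ruNorm_eq_rip]
  exact eight_dvd_of _ _ (allL_spec chk_norm _ (getD_mem (l := Bc) (k := k) hk))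

theorem rip_dvd {v w : RuVec} (hv : v ∈ M) (hw : w ∈ M) : (4 : ℤ) ∣ rip v w := by
  obtain ⟨c, rfl⟩ := exists_coeff hv
  obtain ⟨d, rfl⟩ := exists_coeff hw
  rw [rip_sum_left]
  refine Finset.dvd_sum fun k hk => ?_
  rw [rip_zsmul_left, rip_comm, rip_sum_left, Finset.mul_sum]
  refine Finset.dvd_sum fun l hl => ?_
  rw [rip_zsmul_left]
  exact Dvd.dvd.mul_left (Dvd.dvd.mul_left (rip_B l k (Finset.mem_range.1 hl) (Finset.mem_range.1 hk)) _) _

theorem B_mem_M (k : ℕ) (hk : k < 56) : Bv k ∈ M := by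
  rw [← ruLattice_eq]; exact B_mem k hk

theorem norm_dvd {v : RuVec} (hv : v ∈ M) : (8 : ℤ) ∣ ruNorm v := by
  obtain ⟨c, rfl⟩ := exists_coeff hv
  have : ∀ n ≤ 56, (8 : ℤ) ∣ ruNorm (∑ k ∈ Finset.range n, c k • Bv k) := by
    intro n
    induction n with
    | zero =>
      intro _
      rw [Finset.sum_range_zero, ruNorm_eq_rip, rip_zero_left]
      exact dvd_zero _
    | succ n ih =>
      intro hn
      rw [Finset.sum_range_succ, ruNorm_add]
      have h1 := ih (by omega)
      have h2 : (8 : ℤ) ∣ ruNorm (c n • Bv n) := by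
        rw [ruNorm_zsmul]
        exact Dvd.dvd.mul_left (norm_B n (by omega)) _
      have h3 : (4 : ℤ) ∣ rip (∑ k ∈ Finset.range n, c k • Bv k) (c n • Bv n) := by
        refine rip_dvd (AddSubgroup.sum_mem _ fun k hk => AddSubgroup.zsmul_mem _ (B_mem_M k ?_) _)
          (AddSubgroup.zsmul_mem _ (B_mem_M n (by omega)) _)
        have := Finset.mem_range.1 hk
        omega
      omega
  exact this 56 le_rfl

end Cfsg.Agent.Ru900.Eq
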