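import Cfsg.Agent.Ru900.Pack
import Cfsg.Agent.Ru900.Data

/-!
The lattice of `Def_Spor_Ru` is the span of an explicit basis, and is given by explicit congruences (dual
description). It is even with `4 ∣` inner products.
-/

set_option autoImplicit false
set_option maxRecDepth 100000

namespace Cfsg.Agent.Ru900.Lat

open Cfsg.Spor Cfsg.Agent.Ru900.Coord Cfsg.Agent.Ru900.Pack Cfsg.Agent.Ru900.Data

/-- basis vectors -/
def Bv (k : ℕ) : RuVec := vec (Bc.getD k 0)

/-- dual basis vectors -/
def Dv (k : ℕ) : RuVec := vec (Dc.getD k 0)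

theorem len_B : Bc.length = 56 := rfl
theorem len_D : Dc.length = 56 := rfl
theorem len_BT : BTc.length = 56 := rfl
theorem len_DT : DTc.length = 56 := rfl
theorem len_DQ : DQ.length = 56 := rfl

theorem chk_DT : allI Dc (fun k x => allI DTc (fun r y => Nat.beq (digF x r) (digF y k)) 0) 0 = true := by
  decide +kernel

theorem chk_BT : allI Bc (fun k x => allI BTc (fun r y => Nat.beq (digF x r) (digF y k)) 0) 0 = true := by
  decide +kernel

theorem dig_DT (k r : ℕ) (hk : k < 56) (hr : r < 56) : dig (Dc.getD k 0) r = dig (DTc.getD r 0) k := by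
  have h := allI_spec (allI_spec chk_DT k hk) r hr
  rw [zero_add, zero_add, digF_eq, digF_eq] at h
  exact Nat.eq_of_beq_eq_true h

theorem dig_BT (k r : ℕ) (hk : k < 56) (hr : r < 56) : dig (Bc.getD k 0) r = dig (BTc.getD r 0) k := by
  have h := allI_spec (allI_spec chk_BT k hk) r hr
  rw [zero_add, zero_add, digF_eq, digF_eq] at h
  exact Nat.eq_of_beq_eq_true h

theorem chk_DB : allI DTc (fun r x => allI BTc (fun q y =>
    Nat.beq (Nat.add (dotC 56 x y) 3584)
      (Nat.add (Nat.mul 8 (Nat.add (dsum 56 x) (dsum 56 y))) (cond (Nat.beq r q) 4 0))) 0) 0 = true := by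
  decide +kernel

/-- duality of the two bases -/
theorem dual (r q : ℕ) (hr : r < 56) (hq : q < 56) :
    ∑ k ∈ Finset.range 56, crd (Dv k) r * crd (Bv k) q = if r = q then 4 else 0 := by
  have h := allI_spec (allI_spec chk_DB r hr) q hq
  rw [zero_add, zero_add] at h
  have h1 := Nat.eq_of_beq_eq_true h
  have h2 : (dotC 56 (DTc.getD r 0) (BTc.getD q 0) : ℤ) + 3584 =
      8 * ((dsum 56 (DTc.getD r 0) : ℤ) + (dsum 56 (BTc.getD q 0) : ℤ)) + (if r = q then 4 else 0) := by
    have h3 : dotC 56 (DTc.getD r 0) (BTc.getD q 0) + 3584 =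
      8 * (dsum 56 (DTc.getD r 0) + dsum 56 (BTc.getD q 0)) + cond (Nat.beq r q) 4 0 := h1
    have h4 : (cond (Nat.beq r q) 4 0 : ℕ) = if r = q then 4 else 0 := by
      by_cases e : r = q
      · rw [if_pos e, e, Nat.beq_refl]; rfl
      · rw [if_neg e]
        have : Nat.beq r q = false := by
          rw [← Bool.not_eq_true]
          intro h5
          exact e (Nat.eq_of_beq_eq_true h5)
        rw [this]; rfl
    rw [h4] at h3
    have h5 := congrArg (Nat.cast : ℕ → ℤ) h3
    push_cast at h5
    exact h5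
  rw [dotC_eq, dsum_eq, dsum_eq] at h2
  push_cast at h2
  have e1 : ∑ k ∈ Finset.range 56, crd (Dv k) r * crd (Bv k) q =
      ∑ k ∈ Finset.range 56, ((dig (DTc.getD r 0) k : ℤ) - 8) * ((dig (BTc.getD q 0) k : ℤ) - 8) := by
    refine Finset.sum_congr rfl fun k hk => ?_
    rw [Finset.mem_range] at hk
    rw [Dv, Bv, crd_vec _ _ hr, crd_vec _ _ hq, dig_DT k r hk hr, dig_BT k q hk hq]
  rw [e1]
  have e2 : ∀ a b : ℤ, (a - 8) * (b - 8) = a * b - 8 * a - 8 * b + 64 := fun a b => by ring
  simp only [e2, Finset.sum_add_distrib, Finset.sum_sub_distrib, ← Finset.mul_sum, Finset.sum_const,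
    Finset.card_range, nsmul_eq_mul]
  push_cast
  linarith

/-- expansion of a vector in the basis -/
theorem expand (v : RuVec) : (4 : ℤ) • v = ∑ k ∈ Finset.range 56, rip v (Dv k) • Bv k := by
  apply ext_crd
  intro q hq
  rw [crd_zsmul, crd_sum]
  simp only [crd_zsmul, rip, Finset.sum_mul]
  rw [Finset.sum_comm]
  have e : ∀ r ∈ Finset.range 56, ∑ k ∈ Finset.range 56, crd v r * crd (Dv k) r * crd (Bv k) q =
      if r = q then 4 * crd v r else 0 := by
    intro r hr
    rw [Finset.mem_range] at hr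
    have : ∑ k ∈ Finset.range 56, crd v r * crd (Dv k) r * crd (Bv k) q =
        crd v r * ∑ k ∈ Finset.range 56, crd (Dv k) r * crd (Bv k) q := by
      rw [Finset.mul_sum]
      exact Finset.sum_congr rfl fun k _ => by ring
    rw [this, dual r q hr hq]
    by_cases e : r = q
    · rw [if_pos e, if_pos e]; ring
    · rw [if_neg e, if_neg e]; ring
  rw [Finset.sum_congr rfl e, Finset.sum_ite_eq' (Finset.range 56) q (fun r => 4 * crd v r),
    if_pos (Finset.mem_range.2 hq)]

/-- the lattice, by congruences -/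
def M : AddSubgroup RuVec where
  carrier := {v | ∀ k < 56, (4 : ℤ) ∣ rip v (Dv k)}
  zero_mem' := by
    intro k _
    rw [rip_zero_left]
    exact dvd_zero _
  add_mem' := by
    intro v w hv hw k hk
    rw [rip_add_left]
    exact dvd_add (hv k hk) (hw k hk)
  neg_mem' := by
    intro v hv k hk
    rw [rip_neg_left]
    exact (dvd_neg).2 (hv k hk)

theorem mem_M {v : RuVec} : v ∈ M ↔ ∀ k < 56, (4 : ℤ) ∣ rip v (Dv k) := Iff.rfl

/-- the elements of `M` are the integral combinations of the basis -/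
theorem exists_coeff {v : RuVec} (hv : v ∈ M) :
    ∃ c : ℕ → ℤ, v = ∑ k ∈ Finset.range 56, c k • Bv k := by
  refine ⟨fun k => rip v (Dv k) / 4, ?_⟩
  have h : (4 : ℤ) • v = (4 : ℤ) • ∑ k ∈ Finset.range 56, (rip v (Dv k) / 4) • Bv k := by
    rw [expand, Finset.smul_sum]
    refine Finset.sum_congr rfl fun k hk => ?_
    rw [smul_smul, Int.mul_ediv_cancel' (hv k (Finset.mem_range.1 hk))]
  apply ext_crd
  intro q _
  have h1 := congrArg (fun w => crd w q) h
  simp only [crd_zsmul] at h1
  linarith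

/-! ### membership of coded vectors -/

theorem chk_DQ : allI DQ (fun q y => Nat.beq y (packCol Dc q)) 0 = true := by decide +kernel

theorem DQ_eq (q : ℕ) (hq : q < 56) :
    DQ.getD q 0 = ∑ k ∈ Finset.range 56, (dig (Dc.getD k 0) q % 8) * 65536 ^ k := by
  have h := allI_spec chk_DQ q hq
  rw [zero_add] at h
  rw [Nat.eq_of_beq_eq_true h, packCol_eq, len_D]

/-- packed inner products mod 8 with the dual basis -/
noncomputable def ipD (n : ℕ) : ℕ := sumQ DQ n

/-- inner product of a code with the `k`-th dual vector, up to multiples of 8 -/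
def ipk (n k : ℕ) : ℕ := ∑ q ∈ Finset.range 56, dig n q * (dig (Dc.getD k 0) q % 8)

theorem ipk_lt (n k : ℕ) : ipk n k < 65536 := by
  have h : ipk n k ≤ ∑ q ∈ Finset.range 56, 15 * 7 := by
    refine Finset.sum_le_sum fun q _ => ?_
    have h1 := dig_lt n q
    have h2 := Nat.mod_lt (dig (Dc.getD k 0) q) (show 8 > 0 by norm_num)
    exact Nat.mul_le_mul (by omega) (by omega)
  simp at h
  omega

theorem ipD_eq (n : ℕ) : ipD n = ∑ k ∈ Finset.range 56, ipk n k * 65536 ^ k := by
  unfold ipD
  rw [sumQ_eq, len_DQ]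
  have e : ∀ q ∈ Finset.range 56, dig n q * DQ.getD q 0 =
      ∑ k ∈ Finset.range 56, dig n q * (dig (Dc.getD k 0) q % 8) * 65536 ^ k := by
    intro q hq
    rw [DQ_eq q (Finset.mem_range.1 hq), Finset.mul_sum]
    exact Finset.sum_congr rfl fun k _ => by ring
  rw [Finset.sum_congr rfl e, Finset.sum_comm]
  refine Finset.sum_congr rfl fun k _ => ?_
  rw [ipk, Finset.sum_mul]

theorem digit_ipD (n k : ℕ) (hk : k < 56) : ipD n / 65536 ^ k % 65536 = ipk n k := by
  rw [ipD_eq]
  exact digit_sum 56 (ipk n) (fun k _ => ipk_lt n k) k hk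

theorem rip_emod (n k : ℕ) : rip (vec n) (Dv k) % 8 = (ipk n k : ℤ) % 8 := by
  unfold rip ipk
  push_cast
  rw [Finset.sum_int_mod, Finset.sum_int_mod (Finset.range 56) 8 (fun q => (dig n q : ℤ) * _)]
  congr 1
  refine Finset.sum_congr rfl fun q hq => ?_
  rw [Finset.mem_range] at hq
  rw [Dv, crd_vec _ _ hq, crd_vec _ _ hq]
  have e : ((dig n q : ℤ) - 8) * ((dig (Dc.getD k 0) q : ℤ) - 8) =
      (dig n q : ℤ) * (dig (Dc.getD k 0) q : ℤ) + 8 * (8 - (dig n q : ℤ) - (dig (Dc.getD k 0) q : ℤ)) := by ring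
  rw [e, Int.add_mul_emod_self_left, Int.mul_emod, Int.mul_emod (dig n q : ℤ) ((dig (Dc.getD k 0) q : ℤ) % 8),
    Int.emod_emod_of_dvd _ (dvd_refl 8)]

/-- mask of the two lowest bits of the 56 digits -/
def mask3 : ℕ := Nat.mul 3 (Nat.div (Nat.sub (Nat.pow 2 896) 1) 65535)

/-- membership test for codes -/
noncomputable def memT (n : ℕ) : Bool := Nat.beq (Nat.land (ipD n) mask3) 0

theorem chk_mask3 : allN 56 (fun k => cond (Nat.testBit mask3 (Nat.mul 16 k))
    (Nat.testBit mask3 (Nat.add (Nat.mul 16 k) 1)) false) = true := by decide +kernel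

theorem mask3_bits (k : ℕ) (hk : k < 56) :
    Nat.testBit mask3 (16 * k) = true ∧ Nat.testBit mask3 (16 * k + 1) = true := by
  have h := allN_spec chk_mask3 k hk
  have h' : cond (Nat.testBit mask3 (16 * k)) (Nat.testBit mask3 (16 * k + 1)) false = true := h
  cases h1 : Nat.testBit mask3 (16 * k) with
  | false => rw [h1] at h'; exact absurd h' (by simp)
  | true => rw [h1] at h'; exact ⟨rfl, h'⟩

theorem mem_of_memT {n : ℕ} (h : memT n = true) : vec n ∈ M := by
  intro k hk
  have h0 : (ipD n) &&& mask3 = 0 := Nat.eq_of_beq_eq_true h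
  have hb : ∀ e, e < 2 → Nat.testBit mask3 (16 * k + e) = true → Nat.testBit (ipk n k) e = false := by
    intro e he hm
    have h1 : Nat.testBit (ipD n &&& mask3) (16 * k + e) = false := by rw [h0]; exact Nat.zero_testBit _
    rw [Nat.testBit_and, hm, Bool.and_true, testBit_digit _ _ _ (by omega), digit_ipD n k hk] at h1
    exact h1
  have b0 := hb 0 (by norm_num) (mask3_bits k hk).1
  have b1 := hb 1 (by norm_num) (mask3_bits k hk).2
  have h4 : ipk n k % 4 = 0 := by
    have h5 : ipk n k % 2 ^ 2 = 0 := by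
      apply Nat.eq_of_testBit_eq
      intro i
      rw [Nat.testBit_mod_two_pow, Nat.zero_testBit]
      by_cases hi : i < 2
      · interval_cases i
        · rw [b0]; rfl
        · rw [b1]; rfl
      · simp [hi]
    simpa using h5
  have h6 := rip_emod n k
  omega

/-! ### the operations -/

/-- the five operations -/
def opV (o : ℕ) (v : RuVec) : RuVec :=
  match o with
  | 0 => gI • v
  | 1 => ruRj v
  | 2 => ruRk v
  | 3 => ruSign v
  | _ => ruShift v

/-- signed permutation of the digits -/
noncomputable def opN (tbl : List ℕ) (n : ℕ) : ℕ :=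
  List.rec (motive := fun _ => ℕ) 0
    (fun e _ ih => Nat.add (cond (Nat.testBit e 0) (Nat.land (Nat.sub 16 (digF n (Nat.div e 2))) 15)
      (digF n (Nat.div e 2))) (Nat.mul 16 ih)) tbl

theorem opN_lt (n e : ℕ) : cond (Nat.testBit e 0)
    (Nat.land (Nat.sub 16 (digF n (Nat.div e 2))) 15) (digF n (Nat.div e 2)) < 16 := by
  cases Nat.testBit e 0 with
  | true => rw [cond_true, land_15]; exact Nat.mod_lt _ (by norm_num)
  | false => rw [cond_false, digF_eq]; exact dig_lt _ _

theorem dig_opN (tbl : List ℕ) (n q : ℕ) (hq : q < tbl.length) :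
    dig (opN tbl n) q = cond (Nat.testBit (tbl.getD q 0) 0) ((16 - dig n (tbl.getD q 0 / 2)) % 16)
      (dig n (tbl.getD q 0 / 2)) := by
  induction tbl generalizing q with
  | nil => simp at hq
  | cons e l ih =>
    have h : opN (e :: l) n = cond (Nat.testBit e 0) (Nat.land (Nat.sub 16 (digF n (Nat.div e 2))) 15)
      (digF n (Nat.div e 2)) + 16 * opN l n := rfl
    have hlt := opN_lt n e
    cases q with
    | zero =>
      rw [h, dig_zero, Nat.add_mul_mod_self_left, Nat.mod_eq_of_lt hlt]
      simp only [List.getD_cons_zero]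
      rw [land_15, digF_eq]
      rfl
    | succ q =>
      rw [dig_succ, h, Nat.add_mul_div_left _ _ (by norm_num), Nat.div_eq_of_lt hlt, zero_add]
      simp only [List.getD_cons_succ]
      exact ih q (by simpa using hq)

/-- all digits nonzero -/
noncomputable def nz (n : ℕ) : Bool := allN 56 (fun q => Nat.ble 1 (digF n q))

theorem nz_spec {n : ℕ} (h : nz n = true) (q : ℕ) (hq : q < 56) : 1 ≤ dig n q := by
  have := allN_spec h q hq
  rw [digF_eq] at this
  exact Nat.le_of_ble_eq_true this

/-- table of an operation -/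
def tab (o : ℕ) : List ℕ := OT.getD o []

theorem tab_len (o : ℕ) (ho : o < 5) : (tab o).length = 56 := by
  interval_cases o <;> rfl

theorem tab_src (o : ℕ) (ho : o < 5) (q : ℕ) (hq : q < 56) : (tab o).getD q 0 / 2 < 56 := by
  interval_cases o <;> interval_cases q <;> decide

theorem crd_opV (o : ℕ) (ho : o < 5) (v : RuVec) (q : ℕ) (hq : q < 56) :
    crd (opV o v) q = cond (Nat.testBit ((tab o).getD q 0) 0) (-crd v ((tab o).getD q 0 / 2))
      (crd v ((tab o).getD q 0 / 2)) := by
  have hre : ∀ z : GaussianInt, (gI * z).re = -z.im := fun z => by simp [gI]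
  have him : ∀ z : GaussianInt, (gI * z).im = z.re := fun z => by simp [gI]
  interval_cases o
  · interval_cases q <;> first | exact hre _ | exact him _
  · interval_cases q <;> first | exact hre _ | exact him _ | rfl
  · interval_cases q <;> first | exact hre _ | exact him _ | rfl
  · interval_cases q <;> rfl
  · interval_cases q <;> rfl

theorem vec_opN (o : ℕ) (ho : o < 5) (n : ℕ) (hn : nz n = true) : vec (opN (tab o) n) = opV o (vec n) := by
  apply ext_crd
  intro q hq
  rw [crd_vec _ _ hq, crd_opV o ho _ q hq, dig_opN _ _ _ (by rw [tab_len o ho]; exact hq),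
    crd_vec _ _ (tab_src o ho q hq)]
  have h1 := nz_spec hn _ (tab_src o ho q hq)
  have h2 := dig_lt n ((tab o).getD q 0 / 2)
  cases Nat.testBit ((tab o).getD q 0) 0 with
  | true =>
    rw [cond_true, cond_true, Nat.mod_eq_of_lt (by omega)]
    push_cast [Nat.cast_sub (le_of_lt h2)]
    ring
  | false => rfl

end Cfsg.Agent.Ru900.Lat
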