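import Cfsg.Agent.Ru900.Coord

/-!
Small kernel-friendly loops and packed sums for codes of vectors.
-/

set_option autoImplicit false

namespace Cfsg.Agent.Ru900.Pack

open Cfsg.Agent.Ru900.Coord

/-! ### loops -/

/-- `f` holds below `n` -/
noncomputable def allN (n : ℕ) (f : ℕ → Bool) : Bool :=
  Nat.rec (motive := fun _ => Bool) true (fun k ih => cond (f k) ih false) n

theorem allN_spec {n : ℕ} {f : ℕ → Bool} (h : allN n f = true) : ∀ k < n, f k = true := by
  induction n with
  | zero => intro k hk; omega
  | succ n ih =>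
    have h' : cond (f n) (allN n f) false = true := h
    cases hf : f n with
    | false => rw [hf] at h'; exact absurd h' (by simp)
    | true =>
      rw [hf] at h'
      intro k hk
      rcases Nat.lt_succ_iff_lt_or_eq.1 hk with h1 | h1
      · exact ih h' k h1
      · rw [h1]; exact hf

/-- `f` holds on a list -/
noncomputable def allL (l : List ℕ) (f : ℕ → Bool) : Bool :=
  List.rec (motive := fun _ => Bool) true (fun x _ ih => cond (f x) ih false) l

theorem allL_spec {l : List ℕ} {f : ℕ → Bool} (h : allL l f = true) : ∀ x ∈ l, f x = true := by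
  induction l with
  | nil => intro x hx; simp at hx
  | cons a l ih =>
    have h' : cond (f a) (allL l f) false = true := h
    cases hf : f a with
    | false => rw [hf] at h'; exact absurd h' (by simp)
    | true =>
      rw [hf] at h'
      intro x hx
      rcases List.mem_cons.1 hx with h1 | h1
      · rw [h1]; exact hf
      · exact ih h' x h1

/-- `f` holds on a list with indices -/
noncomputable def allI (l : List ℕ) (f : ℕ → ℕ → Bool) : ℕ → Bool :=
  List.rec (motive := fun _ => ℕ → Bool) (fun _ => true) (fun x _ ih i => cond (f i x) (ih (Nat.succ i)) false) l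

theorem allI_spec {l : List ℕ} {f : ℕ → ℕ → Bool} {i : ℕ} (h : allI l f i = true) :
    ∀ k < l.length, f (i + k) (l.getD k 0) = true := by
  induction l generalizing i with
  | nil => intro k hk; simp at hk
  | cons a l ih =>
    have h' : cond (f i a) (allI l f (i + 1)) false = true := h
    cases hf : f i a with
    | false => rw [hf] at h'; exact absurd h' (by simp)
    | true =>
      rw [hf] at h'
      intro k hk
      cases k with
      | zero => simpa using hf
      | succ k =>
        have h2 := ih h' k (by simpa using hk)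
        have e : i + 1 + k = i + (k + 1) := by ring
        rw [e] at h2
        simpa using h2

theorem getD_mem {l : List ℕ} {k : ℕ} (hk : k < l.length) : l.getD k 0 ∈ l := by
  rw [List.getD_eq_getElem _ _ hk]
  exact List.getElem_mem hk

/-! ### digits -/

theorem land_15 (x : ℕ) : Nat.land x 15 = x % 16 := Nat.and_two_pow_sub_one_eq_mod x 4

theorem land_7 (x : ℕ) : Nat.land x 7 = x % 8 := Nat.and_two_pow_sub_one_eq_mod x 3

theorem shiftRight_4 (x : ℕ) : Nat.shiftRight x 4 = x / 16 := Nat.shiftRight_eq_div_pow x 4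

/-- fast digit -/
def digF (n q : ℕ) : ℕ := Nat.land (Nat.shiftRight n (Nat.mul 4 q)) 15

theorem digF_eq (n q : ℕ) : digF n q = dig n q := by
  unfold digF dig
  rw [land_15]
  have : Nat.shiftRight n (Nat.mul 4 q) = n / 16 ^ q := by
    have h1 : Nat.shiftRight n (Nat.mul 4 q) = n / 2 ^ (4 * q) := Nat.shiftRight_eq_div_pow n (4 * q)
    rw [h1, pow_mul]
    norm_num
  rw [this]

theorem dig_zero (n : ℕ) : dig n 0 = n % 16 := by simp [dig]

theorem dig_succ (n q : ℕ) : dig n (q + 1) = dig (n / 16) q := by
  unfold dig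
  rw [Nat.div_div_eq_div_mul, pow_succ']

theorem dig_lt (n q : ℕ) : dig n q < 16 := Nat.mod_lt _ (by norm_num)

/-- dot product of digit strings -/
noncomputable def dotC (n : ℕ) : ℕ → ℕ → ℕ :=
  Nat.rec (motive := fun _ => ℕ → ℕ → ℕ) (fun _ _ => 0)
    (fun _ ih x y => Nat.add (Nat.mul (Nat.land x 15) (Nat.land y 15))
      (ih (Nat.shiftRight x 4) (Nat.shiftRight y 4))) n

theorem dotC_eq (n x y : ℕ) : dotC n x y = ∑ q ∈ Finset.range n, dig x q * dig y q := by
  induction n generalizing x y with
  | zero => rfl
  | succ n ih =>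
    have h : dotC (n + 1) x y = Nat.land x 15 * Nat.land y 15 +
      dotC n (Nat.shiftRight x 4) (Nat.shiftRight y 4) := rfl
    rw [h, ih, Finset.sum_range_succ', land_15, land_15, shiftRight_4, shiftRight_4, dig_zero, dig_zero, add_comm]
    simp only [dig_succ]

/-- digit sum -/
noncomputable def dsum (n : ℕ) : ℕ → ℕ :=
  Nat.rec (motive := fun _ => ℕ → ℕ) (fun _ => 0)
    (fun _ ih x => Nat.add (Nat.land x 15) (ih (Nat.shiftRight x 4))) n

theorem dsum_eq (n x : ℕ) : dsum n x = ∑ q ∈ Finset.range n, dig x q := by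
  induction n generalizing x with
  | zero => rfl
  | succ n ih =>
    have h : dsum (n + 1) x = Nat.land x 15 + dsum n (Nat.shiftRight x 4) := rfl
    rw [h, ih, Finset.sum_range_succ', land_15, shiftRight_4, dig_zero, add_comm]
    simp only [dig_succ]

/-! ### packed sums -/

/-- `∑ q, dig v q * l[q]` -/
noncomputable def sumQ (l : List ℕ) : ℕ → ℕ :=
  List.rec (motive := fun _ => ℕ → ℕ) (fun _ => 0)
    (fun h _ ih v => Nat.add (Nat.mul (Nat.land v 15) h) (ih (Nat.shiftRight v 4))) l

theorem sumQ_eq (l : List ℕ) (v : ℕ) : sumQ l v = ∑ q ∈ Finset.range l.length, dig v q * l.getD q 0 := by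
  induction l generalizing v with
  | nil => rfl
  | cons a l ih =>
    have h : sumQ (a :: l) v = Nat.land v 15 * a + sumQ l (Nat.shiftRight v 4) := rfl
    rw [h, ih, List.length_cons, Finset.sum_range_succ', land_15, shiftRight_4, dig_zero, add_comm]
    simp only [dig_succ, List.getD_cons_succ, List.getD_cons_zero]

/-- pack the `q`-th digits mod 8 of the entries of a list -/
noncomputable def packCol (l : List ℕ) (q : ℕ) : ℕ :=
  List.rec (motive := fun _ => ℕ) 0
    (fun h _ ih => Nat.add (Nat.land (Nat.shiftRight h (Nat.mul 4 q)) 7) (Nat.mul 65536 ih)) l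

theorem packCol_eq (l : List ℕ) (q : ℕ) :
    packCol l q = ∑ k ∈ Finset.range l.length, (dig (l.getD k 0) q % 8) * 65536 ^ k := by
  induction l with
  | nil => rfl
  | cons a l ih =>
    have h : packCol (a :: l) q = Nat.land (Nat.shiftRight a (Nat.mul 4 q)) 7 + 65536 * packCol l q := rfl
    rw [h, ih, List.length_cons, Finset.sum_range_succ', Finset.mul_sum, add_comm]
    simp only [List.getD_cons_succ, List.getD_cons_zero, pow_zero, mul_one]
    have h1 : Nat.land (Nat.shiftRight a (Nat.mul 4 q)) 7 = dig a q % 8 := by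
      rw [← digF_eq, digF, land_7, land_15, Nat.mod_mod_of_dvd _ (by norm_num)]
    rw [h1]
    congr 1
    refine Finset.sum_congr rfl fun k _ => ?_
    ring

/-- digits of a packed sum -/
theorem digit_sum (n : ℕ) (f : ℕ → ℕ) (hf : ∀ k < n, f k < 65536) (j : ℕ) (hj : j < n) :
    (∑ k ∈ Finset.range n, f k * 65536 ^ k) / 65536 ^ j % 65536 = f j := by
  induction n generalizing f j with
  | zero => omega
  | succ n ih =>
    rw [Finset.sum_range_succ', pow_zero, mul_one]
    have e : ∑ k ∈ Finset.range n, f (k + 1) * 65536 ^ (k + 1) =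
        65536 * ∑ k ∈ Finset.range n, f (k + 1) * 65536 ^ k := by
      rw [Finset.mul_sum]
      exact Finset.sum_congr rfl fun k _ => by ring
    rw [e]
    cases j with
    | zero =>
      rw [pow_zero, Nat.div_one, Nat.mul_add_mod, Nat.mod_eq_of_lt (hf 0 (by omega))]
    | succ j =>
      rw [pow_succ', ← Nat.div_div_eq_div_mul, Nat.mul_add_div (by norm_num),
        Nat.div_eq_of_lt (hf 0 (by omega)), add_zero]
      exact ih (fun k => f (k + 1)) (fun k hk => hf (k + 1) (by omega)) j (by omega)

theorem testBit_digit (S j e : ℕ) (he : e < 16) :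
    Nat.testBit S (16 * j + e) = Nat.testBit (S / 65536 ^ j % 65536) e := by
  have h1 : (65536 : ℕ) ^ j = 2 ^ (16 * j) := by rw [pow_mul]; norm_num
  have h2 : (65536 : ℕ) = 2 ^ 16 := by norm_num
  rw [h1, h2, Nat.testBit_mod_two_pow, Nat.testBit_div_two_pow]
  simp [he, add_comm]

end Cfsg.Agent.Ru900.Pack
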