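import Cfsg.Agent.Ru900.Pack

/-!
Truth tables as natural numbers, bit-sliced counters, enumeration of the set bits of a mask; selected xor of a
list of numbers.
-/

set_option autoImplicit false

namespace Cfsg.Agent.Ru900.TT

open Cfsg.Agent.Ru900.Pack

/-- evaluate the argument to a literal before continuing -/
noncomputable def strict {α : Type} (t : ℕ) (f : ℕ → α) : α :=
  Nat.rec (motive := fun _ => α) (f 0) (fun m _ => f (Nat.succ m)) t

theorem strict_eq {α : Type} (t : ℕ) (f : ℕ → α) : strict t f = f t := by
  cases t <;> rfl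

/-! ### variables -/

/-- all ones, `2 ^ n` bits -/
def ones (n : ℕ) : ℕ := Nat.sub (Nat.pow 2 (Nat.pow 2 n)) 1

theorem testBit_ones (n i : ℕ) : Nat.testBit (ones n) i = decide (i < 2 ^ n) :=
  Nat.testBit_two_pow_sub_one (2 ^ n) i

/-- truth table (of length `2 ^ n`) of the `j`-th variable -/
noncomputable def var (n j : ℕ) : ℕ :=
  Nat.rec (motive := fun _ => ℕ) 0
    (fun m ih => cond (Nat.beq j m) (Nat.shiftLeft (ones m) (Nat.pow 2 m))
      (strict ih (fun v => Nat.lor v (Nat.shiftLeft v (Nat.pow 2 m))))) n

theorem var_succ (n j : ℕ) : var (n + 1) j = cond (Nat.beq j n) (ones n <<< 2 ^ n) (var n j ||| (var n j <<< 2 ^ n)) := by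
  have h : var (n + 1) j = cond (Nat.beq j n) (Nat.shiftLeft (ones n) (Nat.pow 2 n))
      (strict (var n j) (fun v => Nat.lor v (Nat.shiftLeft v (Nat.pow 2 n)))) := rfl
  rw [h, strict_eq]
  rfl

theorem var_lt (n j : ℕ) : var n j < 2 ^ 2 ^ n := by
  induction n with
  | zero => exact Nat.pow_pos (by norm_num)
  | succ n ih =>
    rw [var_succ]
    have e : 2 ^ (n + 1) = 2 ^ n + 2 ^ n := by ring
    cases Nat.beq j n with
    | true =>
      rw [cond_true, Nat.shiftLeft_eq, e, pow_add]
      have : ones n < 2 ^ 2 ^ n := Nat.sub_lt (Nat.pow_pos (by norm_num)) (by norm_num)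
      exact Nat.mul_lt_mul_of_pos_right this (Nat.pow_pos (by norm_num))
    | false =>
      rw [cond_false]
      apply Nat.or_lt_two_pow
      · refine lt_of_lt_of_le ih (Nat.pow_le_pow_right (by norm_num) ?_)
        rw [e]; exact Nat.le_add_left _ _
      · rw [Nat.shiftLeft_eq, e, pow_add]
        exact Nat.mul_lt_mul_of_pos_right ih (Nat.pow_pos (by norm_num))

theorem testBit_var (n j i : ℕ) (hi : i < 2 ^ n) (hj : j < n) : Nat.testBit (var n j) i = Nat.testBit i j := by
  induction n generalizing i with
  | zero => omega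
  | succ n ih =>
    rw [var_succ]
    have e : 2 ^ (n + 1) = 2 ^ n + 2 ^ n := by ring
    rw [e] at hi
    by_cases h : j = n
    · subst h
      rw [Nat.beq_refl, cond_true, Nat.testBit_shiftLeft, testBit_ones]
      by_cases h2 : 2 ^ j ≤ i
      · have h3 : i = 2 ^ j + (i - 2 ^ j) := by omega
        have h4 : Nat.testBit i j = true := by
          rw [h3, Nat.testBit_two_pow_add_eq]
          rw [Nat.testBit_lt_two_pow (by omega)]
          rfl
        rw [h4]
        simp [h2]
        omega
      · rw [Nat.testBit_lt_two_pow (show i < 2 ^ j by omega)]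
        simp [h2]
    · have hb : Nat.beq j n = false := by
        rw [← Bool.not_eq_true]
        exact fun hc => h (Nat.eq_of_beq_eq_true hc)
      rw [hb, cond_false, Nat.testBit_or, Nat.testBit_shiftLeft]
      by_cases h2 : 2 ^ n ≤ i
      · have h3 : i = 2 ^ n + (i - 2 ^ n) := by omega
        have h4 : Nat.testBit i j = Nat.testBit (i - 2 ^ n) j := by
          conv_lhs => rw [h3]
          exact Nat.testBit_two_pow_add_gt (by omega) _
        have h5 : Nat.testBit (var n j) i = false := by
          apply Nat.testBit_lt_two_pow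
          exact lt_of_lt_of_le (var_lt n j) (Nat.pow_le_pow_right (by norm_num) h2)
        rw [h4, h5, ih (i - 2 ^ n) (by omega) (by omega)]
        simp [h2]
      · rw [ih i (by omega) (by omega)]
        simp [h2]

/-! ### iterated xor -/

/-- xor of `f 0, ..., f (n - 1)` -/
def xorB : ℕ → (ℕ → Bool) → Bool
  | 0, _ => false
  | n + 1, f => xor (xorB n f) (f n)

theorem xorB_congr {n : ℕ} {f g : ℕ → Bool} (h : ∀ j < n, f j = g j) : xorB n f = xorB n g := by
  induction n with
  | zero => rfl
  | succ n ih =>
    rw [xorB, xorB, ih (fun j hj => h j (by omega)), h n (by omega)]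

theorem xorB_succ' (n : ℕ) (f : ℕ → Bool) : xorB (n + 1) f = xor (f 0) (xorB n (fun j => f (j + 1))) := by
  induction n with
  | zero => simp [xorB]
  | succ n ih =>
    rw [xorB, ih, xorB]
    cases f 0 <;> cases xorB n (fun j => f (j + 1)) <;> cases f (n + 1) <;> rfl

theorem xorB_xor (n : ℕ) (f g : ℕ → Bool) :
    xorB n (fun j => xor (f j) (g j)) = xor (xorB n f) (xorB n g) := by
  induction n with
  | zero => rfl
  | succ n ih =>
    rw [xorB, ih, xorB, xorB]
    cases xorB n f <;> cases xorB n g <;> cases f n <;> cases g n <;> rfl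

theorem xorB_false (n : ℕ) : xorB n (fun _ => false) = false := by
  induction n with
  | zero => rfl
  | succ n ih => rw [xorB, ih]; rfl

/-- parity of a sum -/
theorem xorB_odd (n : ℕ) (a : ℕ → ℤ) :
    xorB n (fun q => decide (a q % 2 = 1)) = decide ((∑ q ∈ Finset.range n, a q) % 2 = 1) := by
  induction n with
  | zero => simp [xorB]
  | succ n ih =>
    rw [xorB, ih, Finset.sum_range_succ]
    have h1 := Int.emod_two_eq_zero_or_one (∑ q ∈ Finset.range n, a q)
    have h2 := Int.emod_two_eq_zero_or_one (a n)
    generalize ∑ q ∈ Finset.range n, a q = s at h1 ⊢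
    generalize a n = b at h2 ⊢
    rcases h1 with h1 | h1 <;> rcases h2 with h2 | h2
    · have : (s + b) % 2 = 0 := by omega
      simp [h1, h2, this]
    · have : (s + b) % 2 = 1 := by omega
      simp [h1, h2, this]
    · have : (s + b) % 2 = 1 := by omega
      simp [h1, h2, this]
    · have : (s + b) % 2 = 0 := by omega
      simp [h1, h2, this]

/-! ### selected xor -/

/-- xor of the entries of `l` selected by the bits of `y` -/
noncomputable def sel (l : List ℕ) : ℕ → ℕ :=
  List.rec (motive := fun _ => ℕ → ℕ) (fun _ => 0)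
    (fun g _ ih y => Nat.xor (cond (Nat.beq (Nat.land y 1) 0) 0 g) (ih (Nat.shiftRight y 1))) l

theorem sel_cons (g : ℕ) (l : List ℕ) (y : ℕ) :
    sel (g :: l) y = (bif y.testBit 0 then g else 0) ^^^ sel l (y / 2) := by
  have h : sel (g :: l) y = Nat.xor (cond (Nat.beq (Nat.land y 1) 0) 0 g) (sel l (Nat.shiftRight y 1)) := rfl
  rw [h]
  have h1 : Nat.land y 1 = y % 2 := Nat.and_two_pow_sub_one_eq_mod y 1
  have h2 : Nat.shiftRight y 1 = y / 2 := Nat.shiftRight_eq_div_pow y 1
  rw [h1, h2, Nat.testBit_zero]
  rcases Nat.mod_two_eq_zero_or_one y with h3 | h3 <;> rw [h3] <;> rfl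

theorem testBit_sel (l : List ℕ) (y q : ℕ) :
    (sel l y).testBit q = xorB l.length (fun j => y.testBit j && (l.getD j 0).testBit q) := by
  induction l generalizing y with
  | nil => exact Nat.zero_testBit q
  | cons g l ih =>
    rw [sel_cons, Nat.testBit_xor, ih, List.length_cons, xorB_succ']
    congr 1
    · cases h : y.testBit 0 <;> simp
    · apply xorB_congr
      intro j _
      rw [List.getD_cons_succ, ← Nat.testBit_succ]

theorem sel_xor (l : List ℕ) (y z : ℕ) : sel l (y ^^^ z) = sel l y ^^^ sel l z := by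
  apply Nat.eq_of_testBit_eq
  intro q
  rw [Nat.testBit_xor, testBit_sel, testBit_sel, testBit_sel, ← xorB_xor]
  apply xorB_congr
  intro j _
  rw [Nat.testBit_xor]
  cases y.testBit j <;> cases z.testBit j <;> cases (l.getD j 0).testBit q <;> rfl

theorem sel_zero (l : List ℕ) : sel l 0 = 0 := by
  have := sel_xor l 0 0
  rwa [Nat.xor_self, Nat.xor_self] at this

/-- truth table of the `q`-th bit of `sel l y` as a function of `y` -/
noncomputable def tt (n : ℕ) (l : List ℕ) (q : ℕ) : ℕ → ℕ :=
  List.rec (motive := fun _ => ℕ → ℕ) (fun _ => 0)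
    (fun g _ ih j => cond (Nat.beq (Nat.land (Nat.shiftRight g q) 1) 0) (ih (Nat.succ j))
      (Nat.xor (var n j) (ih (Nat.succ j)))) l

theorem tt_cons (n g : ℕ) (l : List ℕ) (q j : ℕ) :
    tt n (g :: l) q j = (bif g.testBit q then var n j else 0) ^^^ tt n l q (j + 1) := by
  have h : tt n (g :: l) q j = cond (Nat.beq (Nat.land (Nat.shiftRight g q) 1) 0) (tt n l q (j + 1))
      (Nat.xor (var n j) (tt n l q (j + 1))) := rfl
  rw [h]
  have h1 : Nat.land (Nat.shiftRight g q) 1 = (g >>> q) % 2 := Nat.and_two_pow_sub_one_eq_mod _ 1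
  have h2 : g.testBit q = decide ((g >>> q) % 2 = 1) := by
    rw [Nat.testBit_eq_decide_div_mod_eq, Nat.shiftRight_eq_div_pow]
  rw [h1, h2]
  rcases Nat.mod_two_eq_zero_or_one (g >>> q) with h3 | h3 <;> rw [h3]
  · simp
  · rfl

theorem testBit_tt (n : ℕ) (l : List ℕ) (q j i : ℕ) (hi : i < 2 ^ n) (hl : j + l.length ≤ n) :
    (tt n l q j).testBit i = xorB l.length (fun k => i.testBit (j + k) && (l.getD k 0).testBit q) := by
  induction l generalizing j with
  | nil => exact Nat.zero_testBit i
  | cons g l ih =>
    rw [List.length_cons] at hl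
    rw [tt_cons, Nat.testBit_xor, ih (j + 1) (by omega), List.length_cons, xorB_succ']
    congr 1
    · cases h : g.testBit q
      · simp [h]
      · simp only [cond_true]
        rw [testBit_var n j i hi (by omega)]
        simp [h]
    · apply xorB_congr
      intro k _
      rw [List.getD_cons_succ, show j + 1 + k = j + (k + 1) by ring]

theorem testBit_tt_zero (n : ℕ) (l : List ℕ) (q i : ℕ) (hi : i < 2 ^ n) (hl : l.length ≤ n) :
    (tt n l q 0).testBit i = (sel l i).testBit q := by
  rw [testBit_tt n l q 0 i hi (by omega), testBit_sel]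
  apply xorB_congr
  intro k _
  rw [zero_add]

/-! ### counters -/

/-- value of a bit-sliced counter at position `i` -/
def val (i : ℕ) : List ℕ → ℕ
  | [] => 0
  | c :: cs => (c.testBit i).toNat + 2 * val i cs

/-- add a mask to the counters -/
noncomputable def addT (cs : List ℕ) : ℕ → List ℕ :=
  List.rec (motive := fun _ => ℕ → List ℕ) (fun t => cond (Nat.beq t 0) [] [t])
    (fun c _ ih t => strict (Nat.xor c t) (fun x => strict (Nat.land c t) (fun y => x :: ih y))) cs

theorem val_addT (i : ℕ) (cs : List ℕ) (t : ℕ) : val i (addT cs t) = val i cs + (t.testBit i).toNat := by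
  induction cs generalizing t with
  | nil =>
    have h : addT [] t = cond (Nat.beq t 0) [] [t] := rfl
    rw [h]
    by_cases h0 : t = 0
    · subst h0; simp [val]
    · have : Nat.beq t 0 = false := by
        rw [← Bool.not_eq_true]
        exact fun hc => h0 (Nat.eq_of_beq_eq_true hc)
      rw [this]; simp [val]
  | cons c cs ih =>
    have h : addT (c :: cs) t = strict (Nat.xor c t) (fun x => strict (Nat.land c t) (fun y => x :: addT cs y)) := rfl
    rw [h, strict_eq, strict_eq]
    have e1 : Nat.xor c t = c ^^^ t := rfl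
    have e2 : Nat.land c t = c &&& t := rfl
    rw [val, ih, e1, e2, Nat.testBit_xor, Nat.testBit_and, val]
    cases c.testBit i <;> cases t.testBit i <;> simp <;> omega

/-- count, for every `y < 2 ^ n`, the bits `q < m` of `sel l y` -/
noncomputable def cnt (n : ℕ) (l : List ℕ) (m : ℕ) : List ℕ :=
  Nat.rec (motive := fun _ => List ℕ) [] (fun q ih => strict (tt n l q 0) (fun t => addT ih t)) m

theorem val_cnt (n : ℕ) (l : List ℕ) (m i : ℕ) (hi : i < 2 ^ n) (hl : l.length ≤ n) :
    val i (cnt n l m) = ∑ q ∈ Finset.range m, ((sel l i).testBit q).toNat := by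
  induction m with
  | zero => rfl
  | succ m ih =>
    have h : cnt n l (m + 1) = strict (tt n l m 0) (fun t => addT (cnt n l m) t) := rfl
    rw [h, strict_eq, val_addT, ih, Finset.sum_range_succ, testBit_tt_zero n l m i hi hl]

/-- mask of the positions where a six-level counter is at most 16 -/
def le16 (n : ℕ) (cs : List ℕ) : ℕ :=
  match cs with
  | [c0, c1, c2, c3, c4, c5] =>
    Nat.xor (ones n) (Nat.land (ones n)
      (Nat.lor c5 (Nat.land c4 (Nat.lor c3 (Nat.lor c2 (Nat.lor c1 c0))))))
  | _ => ones n

theorem le16_spec (n : ℕ) (cs : List ℕ) (i : ℕ) (hi : i < 2 ^ n) (h : val i cs ≤ 16) :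
    (le16 n cs).testBit i = true := by
  have h1 : (ones n).testBit i = true := by rw [testBit_ones]; simpa using hi
  unfold le16
  split
  · rename_i c0 c1 c2 c3 c4 c5
    have e : Nat.xor (ones n) (Nat.land (ones n)
      (Nat.lor c5 (Nat.land c4 (Nat.lor c3 (Nat.lor c2 (Nat.lor c1 c0)))))) =
      (ones n) ^^^ ((ones n) &&& (c5 ||| (c4 &&& (c3 ||| (c2 ||| (c1 ||| c0)))))) := rfl
    rw [e]
    simp only [val] at h
    simp only [Nat.testBit_xor, Nat.testBit_and, Nat.testBit_or, h1]
    revert h
    cases c0.testBit i <;> cases c1.testBit i <;> cases c2.testBit i <;> cases c3.testBit i <;>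
      cases c4.testBit i <;> cases c5.testBit i <;> simp
  · exact h1

/-! ### enumeration of set bits -/

/-- `P` holds at all set bits below `2 ^ k`, by binary splitting -/
noncomputable def allR (P : ℕ → Bool) (k : ℕ) : ℕ → ℕ → Bool :=
  Nat.rec (motive := fun _ => ℕ → ℕ → Bool) (fun m b => cond (Nat.beq m 0) true (P b))
    (fun k ih m b => cond (Nat.beq m 0) true
      (strict (Nat.land m (ones k)) (fun lo => strict (Nat.shiftRight m (Nat.pow 2 k)) (fun hi =>
        strict (Nat.add b (Nat.pow 2 k)) (fun b' => cond (ih lo b) (ih hi b') false))))) k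

theorem allR_spec {P : ℕ → Bool} {k m b : ℕ} (h : allR P k m b = true) :
    ∀ i < 2 ^ k, m.testBit i = true → P (b + i) = true := by
  induction k generalizing m b with
  | zero =>
    intro i hi hb
    have hi0 : i = 0 := by simpa using hi
    subst hi0
    have h' : cond (Nat.beq m 0) true (P b) = true := h
    have hm : Nat.beq m 0 = false := by
      rw [← Bool.not_eq_true]
      intro hc
      rw [Nat.eq_of_beq_eq_true hc, Nat.zero_testBit] at hb
      exact absurd hb (by simp)
    rw [hm] at h'
    exact h'
  | succ k ih =>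
    intro i hi hb
    have h' : cond (Nat.beq m 0) true
      (strict (Nat.land m (ones k)) (fun lo => strict (Nat.shiftRight m (Nat.pow 2 k)) (fun hi =>
        strict (Nat.add b (Nat.pow 2 k)) (fun b' => cond (allR P k lo b) (allR P k hi b') false)))) = true := h
    have hm : Nat.beq m 0 = false := by
      rw [← Bool.not_eq_true]
      intro hc
      rw [Nat.eq_of_beq_eq_true hc, Nat.zero_testBit] at hb
      exact absurd hb (by simp)
    rw [hm, cond_false, strict_eq, strict_eq, strict_eq] at h'
    have hlo : allR P k (Nat.land m (ones k)) b = true := by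
      cases hc : allR P k (Nat.land m (ones k)) b with
      | false => rw [hc] at h'; exact absurd h' (by simp)
      | true => rfl
    rw [hlo, cond_true] at h'
    by_cases hik : i < 2 ^ k
    · refine ih hlo i hik ?_
      have : (m &&& ones k).testBit i = true := by
        rw [Nat.testBit_and, hb, testBit_ones]; simpa using hik
      exact this
    · have e : 2 ^ (k + 1) = 2 ^ k + 2 ^ k := by ring
      have h2 := ih h' (i - 2 ^ k) (by omega) (by
        have : (m >>> 2 ^ k).testBit (i - 2 ^ k) = true := by
          rw [Nat.testBit_shiftRight, show 2 ^ k + (i - 2 ^ k) = i by omega, hb]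
        exact this)
      have e2 : Nat.add b (Nat.pow 2 k) + (i - 2 ^ k) = b + i := by
        have : Nat.add b (Nat.pow 2 k) = b + 2 ^ k := rfl
        rw [this]; omega
      rwa [e2] at h2

end Cfsg.Agent.Ru900.TT
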