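import Cfsg.Agent.Ru900.Eq
import Cfsg.Agent.Ru900.TT
import Cfsg.Agent.Ru900.Data2

/-!
Scan of the vectors of norm at most 16 of the Rudvalis lattice: the odd coordinates form a codeword of weight
0, 8 or 16; weight 8 is impossible and weight 0 gives only `0` and `± 4 e_q`.
-/

set_option autoImplicit false
set_option maxRecDepth 100000
set_option exponentiation.threshold 600000

namespace Cfsg.Agent.Ru900.Scan

open Cfsg.Spor Cfsg.Agent.Ru900.Coord Cfsg.Agent.Ru900.Pack Cfsg.Agent.Ru900.Data Cfsg.Agent.Ru900.Lat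
  Cfsg.Agent.Ru900.Eq Cfsg.Agent.Ru900.TT Cfsg.Agent.Ru900.Data2

/-! ### masks -/

/-- number with bits `f 0, ..., f (n - 1)` -/
def ofB : ℕ → (ℕ → Bool) → ℕ
  | 0, _ => 0
  | n + 1, f => (f 0).toNat + 2 * ofB n (fun q => f (q + 1))

theorem testBit_ofB (n : ℕ) (f : ℕ → Bool) (q : ℕ) : (ofB n f).testBit q = (decide (q < n) && f q) := by
  induction n generalizing f q with
  | zero => simp [ofB]
  | succ n ih =>
    rw [ofB]
    cases q with
    | zero =>
      rw [Nat.testBit_zero]
      cases f 0 <;> simp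
    | succ q =>
      rw [Nat.testBit_succ]
      have : ((f 0).toNat + 2 * ofB n (fun q => f (q + 1))) / 2 = ofB n (fun q => f (q + 1)) := by
        cases f 0 <;> simp <;> omega
      rw [this, ih]
      simp

theorem ofB_lt (n : ℕ) (f : ℕ → Bool) : ofB n f < 2 ^ n := by
  apply Nat.lt_pow_two_of_testBit
  intro i hi
  rw [testBit_ofB]
  simp [hi]

/-- mask of the odd coordinates -/
def cm (x : RuVec) : ℕ := ofB 56 (fun q => decide (crd x q % 2 = 1))

/-- mask of the coordinates congruent to 2 or 3 mod 4 -/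
def fm (x : RuVec) : ℕ := ofB 56 (fun q => decide (2 ≤ crd x q % 4))

theorem testBit_cm (x : RuVec) (q : ℕ) (hq : q < 56) : (cm x).testBit q = decide (crd x q % 2 = 1) := by
  rw [cm, testBit_ofB]; simp [hq]

theorem testBit_fm (x : RuVec) (q : ℕ) (hq : q < 56) : (fm x).testBit q = decide (2 ≤ crd x q % 4) := by
  rw [fm, testBit_ofB]; simp [hq]

/-! ### the odd mask is a codeword -/

theorem chk_Y : allI Bc (fun k x => strict (Yc.getD k 0) (fun y =>
    cond (Nat.blt y 524288) (strict (sel Gc y) (fun c => allN 56 (fun q =>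
      Nat.beq (Nat.land (Nat.shiftRight c q) 1) (Nat.land (digF x q) 1)))) false)) 0 = true := by
  decide +kernel

theorem Y_spec (k : ℕ) (hk : k < 56) : Yc.getD k 0 < 2 ^ 19 ∧
    ∀ q < 56, (sel Gc (Yc.getD k 0)).testBit q = decide (crd (Bv k) q % 2 = 1) := by
  have h := allI_spec chk_Y k hk
  rw [strict_eq, strict_eq, zero_add] at h
  obtain ⟨h1, h2⟩ := and_of_cond h
  refine ⟨Nat.le_of_ble_eq_true h1, fun q hq => ?_⟩
  have h3 := Nat.eq_of_beq_eq_true (allN_spec h2 q hq)
  rw [digF_eq] at h3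
  have e1 : Nat.land (Nat.shiftRight (sel Gc (Yc.getD k 0)) q) 1 = (sel Gc (Yc.getD k 0)) / 2 ^ q % 2 := by
    have a1 : Nat.shiftRight (sel Gc (Yc.getD k 0)) q = sel Gc (Yc.getD k 0) / 2 ^ q :=
      Nat.shiftRight_eq_div_pow _ _
    rw [a1]; exact Nat.and_two_pow_sub_one_eq_mod _ 1
  have e2 : Nat.land (dig (Bc.getD k 0) q) 1 = dig (Bc.getD k 0) q % 2 := Nat.and_two_pow_sub_one_eq_mod _ 1
  rw [e1, e2] at h3
  rw [Nat.testBit_eq_decide_div_mod_eq, h3, Bv, crd_vec _ _ hq]
  congr 1
  apply propext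
  omega

theorem exists_msg {x : RuVec} (hx : x ∈ M) : ∃ y < 2 ^ 19, ∀ q < 56, (cm x).testBit q = (sel Gc y).testBit q := by
  obtain ⟨z, rfl⟩ := exists_coeff hx
  have main : ∀ n ≤ 56, ∃ y < 2 ^ 19, ∀ q < 56,
      xorB n (fun k => decide ((z k * crd (Bv k) q) % 2 = 1)) = (sel Gc y).testBit q := by
    intro n
    induction n with
    | zero =>
      intro _
      refine ⟨0, by norm_num, fun q _ => ?_⟩
      rw [sel_zero, Nat.zero_testBit]; rfl
    | succ n ih =>
      intro hn
      obtain ⟨y, hy, h⟩ := ih (by omega)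
      obtain ⟨hY, hc⟩ := Y_spec n (by omega)
      by_cases hz : z n % 2 = 1
      · refine ⟨y ^^^ Yc.getD n 0, Nat.xor_lt_two_pow hy hY, fun q hq => ?_⟩
        rw [xorB, h q hq, sel_xor, Nat.testBit_xor, hc q hq]
        congr 2
        apply propext
        rw [Int.mul_emod, hz]
        omega
      · refine ⟨y, hy, fun q hq => ?_⟩
        rw [xorB, h q hq]
        have : (z n * crd (Bv n) q) % 2 = 0 := by
          have h0 : z n % 2 = 0 := by omega
          rw [Int.mul_emod, h0]; simp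
        rw [this]; simp
  obtain ⟨y, hy, h⟩ := main 56 le_rfl
  refine ⟨y, hy, fun q hq => ?_⟩
  rw [testBit_cm _ q hq, ← h q hq, xorB_odd, crd_sum]
  simp only [crd_zsmul]

/-! ### weights -/

theorem weight_le (x : RuVec) : (∑ q ∈ Finset.range 56, (((cm x).testBit q).toNat : ℤ)) ≤ ruNorm x := by
  rw [ruNorm_eq]
  refine Finset.sum_le_sum fun q hq => ?_
  rw [testBit_cm x q (Finset.mem_range.1 hq)]
  by_cases h : crd x q % 2 = 1
  · simp only [h, decide_true, Bool.toNat_true, Nat.cast_one]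
    have : crd x q ≠ 0 := by rintro h0; rw [h0] at h; simp at h
    nlinarith [mul_self_nonneg (crd x q), Int.one_le_abs this, abs_mul_abs_self (crd x q)]
  · simp only [h, decide_false, Bool.toNat_false, Nat.cast_zero]
    exact mul_self_nonneg _

/-- weight of a mask -/
noncomputable def pc (n : ℕ) : ℕ → ℕ :=
  Nat.rec (motive := fun _ => ℕ → ℕ) (fun _ => 0)
    (fun _ ih x => Nat.add (Nat.land x 1) (ih (Nat.shiftRight x 1))) n

theorem pc_eq (n x : ℕ) : pc n x = ∑ q ∈ Finset.range n, (x.testBit q).toNat := by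
  induction n generalizing x with
  | zero => rfl
  | succ n ih =>
    have h : pc (n + 1) x = Nat.land x 1 + pc n (Nat.shiftRight x 1) := rfl
    have h1 : Nat.land x 1 = x % 2 := Nat.and_two_pow_sub_one_eq_mod x 1
    have h2 : Nat.shiftRight x 1 = x / 2 := Nat.shiftRight_eq_div_pow x 1
    rw [h, ih, Finset.sum_range_succ', h1, h2, add_comm]
    congr 1
    · refine Finset.sum_congr rfl fun q _ => ?_
      rw [Nat.testBit_succ]
    · rw [Nat.testBit_zero]
      rcases Nat.mod_two_eq_zero_or_one x with h3 | h3 <;> rw [h3] <;> rfl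

/-- one of the seven words of weight 8 -/
def isRow (c : ℕ) : Bool :=
  cond (Nat.beq c 0xff) true (cond (Nat.beq c 0xff00) true (cond (Nat.beq c 0xff0000) true
    (cond (Nat.beq c 0xff000000) true (cond (Nat.beq c 0xff00000000) true
      (cond (Nat.beq c 0xff0000000000) true (Nat.beq c 0xff000000000000))))))

/-- the mask of messages of weight at most 16 -/
noncomputable def W16 : ℕ := le16 19 (cnt 19 Gc 56)

theorem chk_scan : allR (fun y => strict (sel Gc y) (fun c => cond (Nat.beq (pc 56 c) 16) true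
    (cond (Nat.beq c 0) true (isRow c)))) 19 W16 0 = true := by
  decide +kernel

theorem len_G : Gc.length = 19 := rfl

theorem sel_Gc_lt (y : ℕ) : sel Gc y < 2 ^ 56 := by
  apply Nat.lt_pow_two_of_testBit
  intro i hi
  rw [testBit_sel, len_G]
  have h : xorB 19 (fun j => y.testBit j && (Gc.getD j 0).testBit i) = xorB 19 (fun _ => false) := by
    apply xorB_congr
    intro j hj
    have : Gc.getD j 0 < 2 ^ 56 := by
      have hall : ∀ g ∈ Gc, g < 2 ^ 56 := by decide
      exact hall _ (getD_mem (by rw [len_G]; exact hj))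
    rw [Nat.testBit_lt_two_pow (lt_of_lt_of_le this (Nat.pow_le_pow_right (by norm_num) hi))]
    simp
  rw [h, xorB_false]

theorem cm_eq {x : RuVec} {y : ℕ} (h : ∀ q < 56, (cm x).testBit q = (sel Gc y).testBit q) : cm x = sel Gc y := by
  apply Nat.eq_of_testBit_eq
  intro q
  by_cases hq : q < 56
  · exact h q hq
  · have h1 : cm x < 2 ^ q := lt_of_lt_of_le (ofB_lt 56 _) (Nat.pow_le_pow_right (by norm_num) (by omega))
    have h2 : sel Gc y < 2 ^ q := lt_of_lt_of_le (sel_Gc_lt y) (Nat.pow_le_pow_right (by norm_num) (by omega))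
    rw [Nat.testBit_lt_two_pow h1, Nat.testBit_lt_two_pow h2]

/-- the message of a short vector lies in the mask -/
theorem mem_W16 {x : RuVec} (hx : x ∈ M) (hn : ruNorm x ≤ 16) :
    ∃ y < 2 ^ 19, cm x = sel Gc y ∧ W16.testBit y = true := by
  obtain ⟨y, hy, h⟩ := exists_msg hx
  refine ⟨y, hy, cm_eq h, ?_⟩
  apply le16_spec 19 _ y hy
  rw [val_cnt 19 Gc 56 y hy (by rw [len_G])]
  have h1 := weight_le x
  have h2 : (∑ q ∈ Finset.range 56, (((cm x).testBit q).toNat : ℤ)) =
      ((∑ q ∈ Finset.range 56, ((sel Gc y).testBit q).toNat : ℕ) : ℤ) := by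
    push_cast
    exact Finset.sum_congr rfl fun q hq => by rw [h q (Finset.mem_range.1 hq)]
  rw [h2] at h1
  omega

theorem scan {x : RuVec} (hx : x ∈ M) (hn : ruNorm x ≤ 16) :
    pc 56 (cm x) = 16 ∨ cm x = 0 ∨ isRow (cm x) = true := by
  obtain ⟨y, hy, hc, hW⟩ := mem_W16 hx hn
  have h := allR_spec chk_scan y hy hW
  rw [strict_eq, zero_add, ← hc] at h
  by_cases h1 : pc 56 (cm x) = 16
  · exact Or.inl h1
  · have hb : Nat.beq (pc 56 (cm x)) 16 = false := by
      rw [← Bool.not_eq_true]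
      exact fun hc => h1 (Nat.eq_of_beq_eq_true hc)
    rw [hb, cond_false] at h
    by_cases h2 : cm x = 0
    · exact Or.inr (Or.inl h2)
    · have hb : Nat.beq (cm x) 0 = false := by
        rw [← Bool.not_eq_true]
        exact fun hc => h2 (Nat.eq_of_beq_eq_true hc)
      rw [hb, cond_false] at h
      exact Or.inr (Or.inr h)

end Cfsg.Agent.Ru900.Scan
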