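import Cfsg.Agent.Ru900.Sig

/-!
The vectors of norm at most 16 of the Rudvalis lattice: either `0`, or `± 4 e_q`, or sixteen coordinates `± 1` (all
others zero). In particular there are no vectors of norm 8.
-/

set_option autoImplicit false
set_option maxRecDepth 100000
set_option exponentiation.threshold 600000
set_option maxHeartbeats 400000

namespace Cfsg.Agent.Ru900.Short

open Cfsg.Spor Cfsg.Agent.Ru900.Coord Cfsg.Agent.Ru900.Pack Cfsg.Agent.Ru900.Data Cfsg.Agent.Ru900.Lat
  Cfsg.Agent.Ru900.Eq Cfsg.Agent.Ru900.TT Cfsg.Agent.Ru900.Data2 Cfsg.Agent.Ru900.Scan Cfsg.Agent.Ru900.Sig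

/-- the predicate used in searches -/
def Pz (t : ℕ) : Bool := Nat.blt 0 t

theorem cols_c : colsOK bc Cc = true := by decide +kernel
theorem cols_0 : colsOK Rb0 Rc0 = true := by decide +kernel
theorem cols_1 : colsOK Rb1 Rc1 = true := by decide +kernel
theorem cols_2 : colsOK Rb2 Rc2 = true := by decide +kernel
theorem cols_3 : colsOK Rb3 Rc3 = true := by decide +kernel
theorem cols_4 : colsOK Rb4 Rc4 = true := by decide +kernel
theorem cols_5 : colsOK Rb5 Rc5 = true := by decide +kernel
theorem cols_6 : colsOK Rb6 Rc6 = true := by decide +kernel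

/-- check for a word `c` of weight 8 -/
noncomputable def rowOK (bl cl : List ℕ) (c : ℕ) : Bool :=
  cond (srch Pz cl 2 (sigl bl c)) (cond (Nat.beq (pc 56 c) 8) (allI cl (fun q g =>
    cond (Nat.beq (Nat.land (Nat.shiftRight c q) 1) 0) true (Nat.beq g 0)) 0) false) false

theorem row_0 : rowOK Rb0 Rc0 0xff = true := by decide +kernel
theorem row_1 : rowOK Rb1 Rc1 0xff00 = true := by decide +kernel
theorem row_2 : rowOK Rb2 Rc2 0xff0000 = true := by decide +kernel
theorem row_3 : rowOK Rb3 Rc3 0xff000000 = true := by decide +kernel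
theorem row_4 : rowOK Rb4 Rc4 0xff00000000 = true := by decide +kernel
theorem row_5 : rowOK Rb5 Rc5 0xff0000000000 = true := by decide +kernel
theorem row_6 : rowOK Rb6 Rc6 0xff000000000000 = true := by decide +kernel

theorem suf_c : sufs 3 Cc = true := by decide +kernel

attribute [local irreducible] dotA sel pc ofB cm fm sigl srch sufs

/-- lower bound of the norm -/
theorem norm_ge (x : RuVec) : (∑ q ∈ Finset.range 56,
    ((((cm x).testBit q).toNat : ℤ) + 4 * (((fm x).testBit q && !(cm x).testBit q).toNat : ℤ))) ≤ ruNorm x := by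
  rw [ruNorm_eq]
  refine Finset.sum_le_sum fun q hq => ?_
  rw [Finset.mem_range] at hq
  rw [testBit_cm x q hq, testBit_fm x q hq]
  generalize crd x q = z
  by_cases h : z % 2 = 1
  · have h0 : z ≠ 0 := by rintro rfl; simp at h
    have : 1 ≤ z * z := by
      have := Int.one_le_abs h0
      nlinarith [abs_mul_abs_self z]
    simp [h, this]
  · by_cases h2 : 2 ≤ z % 4
    · have h3 : 2 ≤ |z| := by
        rcases abs_cases z with ⟨h4, _⟩ | ⟨h4, _⟩ <;> rw [h4] <;> omega
      have : 4 ≤ z * z := by nlinarith [abs_mul_abs_self z]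
      simp [h, h2, this]
    · simp [h, h2, mul_self_nonneg]

theorem norm_ge' (x : RuVec) : (∑ q ∈ Finset.range 56, ((cm x).testBit q).toNat : ℕ) +
    4 * (∑ q ∈ Finset.range 56, ((fm x).testBit q && !(cm x).testBit q).toNat : ℕ) ≤ ruNorm x := by
  have h := norm_ge x
  rw [Finset.sum_add_distrib, ← Finset.mul_sum] at h
  push_cast
  exact h

theorem row_false {bl cl : List ℕ} {c : ℕ} (hc : colsOK bl cl = true) (hr : rowOK bl cl c = true) {x : RuVec}
    (hx : x ∈ M) (hn : ruNorm x ≤ 16) (he : cm x = c) : False := by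
  obtain ⟨h1, hr⟩ := and_of_cond hr
  obtain ⟨h2, h3⟩ := and_of_cond hr
  have hlen := (colsOK_spec hc).1
  have hw : pc 56 (cm x) = 8 := by rw [he]; exact Nat.eq_of_beq_eq_true h2
  rw [pc_eq] at hw
  have hg := norm_ge' x
  have hz : ∀ q < 56, (cm x).testBit q = true → cl.getD q 0 = 0 := by
    intro q hq hb
    have h4 := allI_spec h3 q (by rw [hlen]; exact hq)
    rw [zero_add] at h4
    have a1 : Nat.shiftRight c q = c / 2 ^ q := Nat.shiftRight_eq_div_pow _ _
    have a2 : Nat.land (c / 2 ^ q) 1 = c / 2 ^ q % 2 := Nat.and_two_pow_sub_one_eq_mod _ 1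
    rw [he, Nat.testBit_eq_decide_div_mod_eq] at hb
    have hb' : c / 2 ^ q % 2 = 1 := by simpa using hb
    rw [a1, a2, hb'] at h4
    exact Nat.eq_of_beq_eq_true h4
  have hs := srch_spec h1 (fm x) (by
    rw [hlen]
    have : ∑ q ∈ Finset.range 56, ((fm x).testBit q && !(Nat.beq (cl.getD q 0) 0)).toNat ≤
        ∑ q ∈ Finset.range 56, ((fm x).testBit q && !(cm x).testBit q).toNat := by
      refine Finset.sum_le_sum fun q hq => ?_
      rw [Finset.mem_range] at hq
      cases hb : (cm x).testBit q with
      | true =>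
        rw [hz q hq hb]
        have : Nat.beq 0 0 = true := rfl
        rw [this]
      | false =>
        cases (fm x).testBit q <;> cases Nat.beq (cl.getD q 0) 0 <;> simp
    omega)
  rw [sel_eq_sigl hc hx, he, Nat.xor_self] at hs
  exact absurd hs (by decide)

theorem not_row {x : RuVec} (hx : x ∈ M) (hn : ruNorm x ≤ 16) : isRow (cm x) = false := by
  cases h : isRow (cm x) with
  | false => rfl
  | true =>
    exfalso
    unfold isRow at h
    have step : ∀ (a b : Bool), cond a true b = true → a = true ∨ b = true := by decide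
    rcases step _ _ h with h | h
    · exact row_false cols_0 row_0 hx hn (Nat.eq_of_beq_eq_true h)
    rcases step _ _ h with h | h
    · exact row_false cols_1 row_1 hx hn (Nat.eq_of_beq_eq_true h)
    rcases step _ _ h with h | h
    · exact row_false cols_2 row_2 hx hn (Nat.eq_of_beq_eq_true h)
    rcases step _ _ h with h | h
    · exact row_false cols_3 row_3 hx hn (Nat.eq_of_beq_eq_true h)
    rcases step _ _ h with h | h
    · exact row_false cols_4 row_4 hx hn (Nat.eq_of_beq_eq_true h)
    rcases step _ _ h with h | h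
    · exact row_false cols_5 row_5 hx hn (Nat.eq_of_beq_eq_true h)
    · exact row_false cols_6 row_6 hx hn (Nat.eq_of_beq_eq_true h)

theorem sigl_zero : sigl bc 0 = 0 := by decide +kernel

/-- a short vector with even coordinates has all coordinates divisible by 4 -/
theorem four_dvd {x : RuVec} (hx : x ∈ M) (hn : ruNorm x ≤ 16) (hc : cm x = 0) :
    ∀ q < 56, (4 : ℤ) ∣ crd x q := by
  have hlen := (colsOK_spec cols_c).1
  have hg := norm_ge' x
  have hf : ∀ q < 56, (fm x).testBit q = false := by
    by_contra hcon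
    push_neg at hcon
    obtain ⟨q, hq, hb⟩ := hcon
    have hb' : (fm x).testBit q = true := by
      cases h : (fm x).testBit q with
      | true => rfl
      | false => exact absurd h hb
    refine sufs_spec suf_c (fm x) ?_ ⟨q, by rw [hlen]; exact hq, hb'⟩ ?_
    · rw [hlen]
      have : ∑ q ∈ Finset.range 56, ((fm x).testBit q && !(cm x).testBit q).toNat =
          ∑ q ∈ Finset.range 56, ((fm x).testBit q).toNat := by
        refine Finset.sum_congr rfl fun q _ => ?_
        rw [hc, Nat.zero_testBit]
        simp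
      rw [this] at hg
      omega
    · rw [sel_eq_sigl cols_c hx, hc, sigl_zero]
  intro q hq
  have h1 := hf q hq
  have h2 : (cm x).testBit q = false := by rw [hc]; exact Nat.zero_testBit q
  rw [testBit_fm x q hq] at h1
  rw [testBit_cm x q hq] at h2
  have h3 : ¬ (2 ≤ crd x q % 4) := by simpa using h1
  have h4 : ¬ (crd x q % 2 = 1) := by simpa using h2
  omega

/-- a short vector with even coordinates -/
theorem even_case {x : RuVec} (hx : x ∈ M) (hn : ruNorm x ≤ 16) (hc : cm x = 0) :
    x = 0 ∨ ∃ q < 56, (crd x q = 4 ∨ crd x q = -4) ∧ ∀ r < 56, r ≠ q → crd x r = 0 := by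
  have h4 := four_dvd hx hn hc
  by_cases h0 : x = 0
  · exact Or.inl h0
  · right
    have : ∃ q < 56, crd x q ≠ 0 := by
      by_contra hcon
      push_neg at hcon
      exact h0 (ext_crd fun q hq => by rw [hcon q hq, crd_zero])
    obtain ⟨q, hq, hne⟩ := this
    rw [ruNorm_eq] at hn
    have big : ∀ r < 56, crd x r ≠ 0 → 16 ≤ crd x r * crd x r := by
      intro r hr hr0
      obtain ⟨k, hk⟩ := h4 r hr
      have hk0 : k ≠ 0 := by rintro rfl; exact hr0 (by rw [hk]; ring)
      have := Int.one_le_abs hk0
      rw [hk]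
      nlinarith [abs_mul_abs_self k]
    have hsum : crd x q * crd x q + ∑ r ∈ (Finset.range 56).erase q, crd x r * crd x r ≤ 16 := by
      rw [Finset.add_sum_erase _ (fun r => crd x r * crd x r) (Finset.mem_range.2 hq)]
      exact hn
    have hnn : ∀ r ∈ (Finset.range 56).erase q, 0 ≤ crd x r * crd x r := fun r _ => mul_self_nonneg _
    have hge := big q hq hne
    have hrest : ∑ r ∈ (Finset.range 56).erase q, crd x r * crd x r = 0 :=
      le_antisymm (by linarith) (Finset.sum_nonneg hnn)
    refine ⟨q, hq, ?_, fun r hr hrq => ?_⟩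
    · have h16 : crd x q * crd x q = 16 := by linarith
      have : (crd x q - 4) * (crd x q + 4) = 0 := by linarith
      rcases mul_eq_zero.1 this with h | h
      · left; linarith
      · right; linarith
    · have := (Finset.sum_eq_zero_iff_of_nonneg hnn).1 hrest r (Finset.mem_erase.2 ⟨hrq, Finset.mem_range.2 hr⟩)
      exact mul_self_eq_zero.1 this

/-- a short vector with sixteen odd coordinates -/
theorem odd_case {x : RuVec} (hn : ruNorm x ≤ 16) (hc : pc 56 (cm x) = 16) :
    ∀ q < 56, crd x q = if (cm x).testBit q then (if (fm x).testBit q then -1 else 1) else 0 := by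
  rw [pc_eq] at hc
  rw [ruNorm_eq] at hn
  have hcc : ∑ q ∈ Finset.range 56, (((cm x).testBit q).toNat : ℤ) = 16 := by
    rw [← Nat.cast_sum, hc]; rfl
  have hle : ∀ q ∈ Finset.range 56, (((cm x).testBit q).toNat : ℤ) ≤ crd x q * crd x q := by
    intro q hq
    rw [testBit_cm x q (Finset.mem_range.1 hq)]
    by_cases h : crd x q % 2 = 1
    · have h0 : crd x q ≠ 0 := by rintro h0; rw [h0] at h; simp at h
      have := Int.one_le_abs h0
      simp only [h, decide_true, Bool.toNat_true, Nat.cast_one]
      nlinarith [abs_mul_abs_self (crd x q)]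
    · simp only [h, decide_false, Bool.toNat_false, Nat.cast_zero]
      exact mul_self_nonneg _
  have heq := (Finset.sum_eq_sum_iff_of_le hle).1
    (le_antisymm (Finset.sum_le_sum hle) (by rw [hcc]; exact hn))
  intro q hq
  have h1 := heq q (Finset.mem_range.2 hq)
  have h2 := testBit_cm x q hq
  have h3 := testBit_fm x q hq
  rw [h2, h3]
  rw [h2] at h1
  by_cases h : crd x q % 2 = 1
  · simp only [h, decide_true, Bool.toNat_true, Nat.cast_one] at h1
    have h5 : (crd x q - 1) * (crd x q + 1) = 0 := by linarith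
    rcases mul_eq_zero.1 h5 with h6 | h6
    · have : crd x q = 1 := by linarith
      rw [this]; simp
    · have : crd x q = -1 := by linarith
      rw [this]; simp
  · simp only [h, decide_false, Bool.toNat_false, Nat.cast_zero] at h1
    have : crd x q = 0 := mul_self_eq_zero.1 h1.symm
    rw [this]; simp

/-- the vectors of norm at most 16 -/
theorem short {x : RuVec} (hx : x ∈ M) (hn : ruNorm x ≤ 16) :
    x = 0 ∨ (∃ q < 56, (crd x q = 4 ∨ crd x q = -4) ∧ ∀ r < 56, r ≠ q → crd x r = 0) ∨
    (pc 56 (cm x) = 16 ∧ ∀ q < 56, crd x q = if (cm x).testBit q then (if (fm x).testBit q then -1 else 1) else 0) := by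
  rcases scan hx hn with h | h | h
  · exact Or.inr (Or.inr ⟨h, odd_case hn h⟩)
  · rcases even_case hx hn h with h | h
    · exact Or.inl h
    · exact Or.inr (Or.inl h)
  · rw [not_row hx hn] at h
    exact absurd h (by simp)

/-- no vectors of norm below 16 except 0 -/
theorem norm_ge_16 {x : RuVec} (hx : x ∈ M) (h0 : x ≠ 0) : 16 ≤ ruNorm x := by
  by_contra hlt
  push_neg at hlt
  rcases short hx (le_of_lt hlt) with h | ⟨q, hq, hv, _⟩ | ⟨hc, _⟩
  · exact h0 h
  · have h1 : crd x q * crd x q ≤ ruNorm x := by
      rw [ruNorm_eq]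
      exact Finset.single_le_sum (f := fun r => crd x r * crd x r) (fun r _ => mul_self_nonneg _)
        (Finset.mem_range.2 hq)
    rcases hv with hv | hv <;> rw [hv] at h1 <;> linarith
  · have h1 := norm_ge' x
    rw [pc_eq] at hc
    rw [hc] at h1
    have h2 : (0 : ℤ) ≤ ((4 * ∑ q ∈ Finset.range 56, ((fm x).testBit q && !(cm x).testBit q).toNat : ℕ) : ℤ) :=
      Int.natCast_nonneg _
    push_cast at h1 h2
    linarith

end Cfsg.Agent.Ru900.Short
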