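import Cfsg.Agent.Ru900.Scan

/-!
Congruences satisfied by the vectors of the Rudvalis lattice, in terms of the odd mask `cm` and the mask `fm` of
the coordinates congruent to 2, 3 mod 4; exclusion of the words of weight 8; the vectors with even coordinates.
-/

set_option autoImplicit false
set_option maxRecDepth 100000
set_option exponentiation.threshold 600000
set_option maxHeartbeats 400000

namespace Cfsg.Agent.Ru900.Sig

open Cfsg.Spor Cfsg.Agent.Ru900.Coord Cfsg.Agent.Ru900.Pack Cfsg.Agent.Ru900.Data Cfsg.Agent.Ru900.Lat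
  Cfsg.Agent.Ru900.Eq Cfsg.Agent.Ru900.TT Cfsg.Agent.Ru900.Data2 Cfsg.Agent.Ru900.Scan

/-! ### the congruences -/

/-- `∑ (bit q of c) * (digit q of b mod 4)` -/
noncomputable def dotA (n : ℕ) : ℕ → ℕ → ℕ :=
  Nat.rec (motive := fun _ => ℕ → ℕ → ℕ) (fun _ _ => 0)
    (fun _ ih b c => Nat.add (Nat.mul (Nat.land b 3) (Nat.land c 1))
      (ih (Nat.shiftRight b 4) (Nat.shiftRight c 1))) n

theorem dotA_eq (n b c : ℕ) :
    dotA n b c = ∑ q ∈ Finset.range n, (dig b q % 4) * (c.testBit q).toNat := by
  induction n generalizing b c with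
  | zero => rfl
  | succ n ih =>
    have h : dotA (n + 1) b c = Nat.land b 3 * Nat.land c 1 +
      dotA n (Nat.shiftRight b 4) (Nat.shiftRight c 1) := rfl
    have h1 : Nat.land c 1 = c % 2 := Nat.and_two_pow_sub_one_eq_mod c 1
    have h2 : Nat.shiftRight c 1 = c / 2 := Nat.shiftRight_eq_div_pow c 1
    rw [h, ih, Finset.sum_range_succ', land_3, h1, h2, shiftRight_4, dig_zero, add_comm]
    have h3 : b % 4 = b % 16 % 4 := by omega
    have h4 : (c.testBit 0).toNat = c % 2 := by
      rw [Nat.testBit_zero]
      rcases Nat.mod_two_eq_zero_or_one c with h5 | h5 <;> rw [h5] <;> rfl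
    rw [h4, ← h3]
    congr 1
    refine Finset.sum_congr rfl fun q _ => ?_
    rw [dig_succ, Nat.testBit_succ]

attribute [local irreducible] dotA sel pc ofB cm fm

theorem bit1_of (A F : ℕ) (h : (A + 2 * F) % 4 = 0) : decide (F % 2 = 1) = A.testBit 1 := by
  rw [Nat.testBit_eq_decide_div_mod_eq, pow_one]
  have : (F % 2 = 1) ↔ (A / 2 % 2 = 1) := by omega
  exact decide_eq_decide.2 this

theorem par_of (d : ℕ) (f : Bool) :
    (f && decide (d % 2 = 1)) = decide ((((d % 4) * f.toNat : ℕ) : ℤ) % 2 = 1) := by
  cases f with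
  | false => simp
  | true =>
    simp only [Bool.true_and, Bool.toNat_true, mul_one]
    exact decide_eq_decide.2 (by omega)

theorem par_cast (F : ℕ) : decide (((F : ℕ) : ℤ) % 2 = 1) = decide (F % 2 = 1) :=
  decide_eq_decide.2 (by omega)

theorem cong {x : RuVec} (hx : x ∈ M) {b : ℕ} (hb : vec b ∈ M) :
    (dotA 56 b (cm x) + 2 * dotA 56 b (fm x)) % 4 = 0 := by
  have h := rip_dvd hx hb
  rw [dotA_eq, dotA_eq]
  have e : rip x (vec b) % 4 =
      ((∑ q ∈ Finset.range 56, (dig b q % 4) * ((cm x).testBit q).toNat +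
        2 * ∑ q ∈ Finset.range 56, (dig b q % 4) * ((fm x).testBit q).toNat : ℕ) : ℤ) % 4 := by
    push_cast
    unfold rip
    rw [Finset.mul_sum, ← Finset.sum_add_distrib, Finset.sum_int_mod,
      Finset.sum_int_mod (Finset.range 56) 4 (fun q => ((dig b q : ℤ) % 4) * _ + _)]
    congr 1
    refine Finset.sum_congr rfl fun q hq => ?_
    rw [Finset.mem_range] at hq
    rw [crd_vec _ _ hq, testBit_cm x q hq, testBit_fm x q hq]
    have e1 : (crd x q * ((dig b q : ℤ) - 8)) % 4 = ((crd x q % 4) * ((dig b q : ℤ) % 4)) % 4 := by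
      have : crd x q * ((dig b q : ℤ) - 8) = crd x q * (dig b q : ℤ) + 4 * (-2 * crd x q) := by ring
      rw [this, Int.add_mul_emod_self_left, Int.mul_emod]
    have e2 : crd x q % 4 = ((decide (crd x q % 2 = 1)).toNat : ℤ) + 2 * ((decide (2 ≤ crd x q % 4)).toNat : ℤ) := by
      have h4 : 0 ≤ crd x q % 4 := Int.emod_nonneg _ (by norm_num)
      have h5 : crd x q % 4 < 4 := Int.emod_lt_of_pos _ (by norm_num)
      have h6 : crd x q % 2 = (crd x q % 4) % 2 := by omega
      rw [h6]
      generalize crd x q % 4 = z at h4 h5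
      interval_cases z <;> simp
    rw [e1]
    congr 1
    generalize ((decide (crd x q % 2 = 1)).toNat : ℤ) = A at e2 ⊢
    generalize ((decide (2 ≤ crd x q % 4)).toNat : ℤ) = B at e2 ⊢
    rw [e2]
    ring
  have h0 : ((∑ q ∈ Finset.range 56, (dig b q % 4) * ((cm x).testBit q).toNat +
        2 * ∑ q ∈ Finset.range 56, (dig b q % 4) * ((fm x).testBit q).toNat : ℕ) : ℤ) % 4 = 0 := by
    rw [← e]
    exact Int.emod_eq_zero_of_dvd h
  exact_mod_cast h0

/-- target of the parity equations -/
noncomputable def sigl (l : List ℕ) (c : ℕ) : ℕ :=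
  List.rec (motive := fun _ => ℕ) 0
    (fun b _ ih => Nat.add (Nat.land (Nat.shiftRight (dotA 56 b c) 1) 1) (Nat.mul 2 ih)) l

theorem testBit_sigl (l : List ℕ) (c i : ℕ) :
    (sigl l c).testBit i = (decide (i < l.length) && (dotA 56 (l.getD i 0) c).testBit 1) := by
  induction l generalizing i with
  | nil => simp [sigl]
  | cons b l ih =>
    have h : sigl (b :: l) c = Nat.land (Nat.shiftRight (dotA 56 b c) 1) 1 + 2 * sigl l c := rfl
    have h1 : Nat.land (Nat.shiftRight (dotA 56 b c) 1) 1 = ((dotA 56 b c).testBit 1).toNat := by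
      have a1 : Nat.shiftRight (dotA 56 b c) 1 = dotA 56 b c / 2 := Nat.shiftRight_eq_div_pow _ 1
      have a2 : Nat.land (dotA 56 b c / 2) 1 = dotA 56 b c / 2 % 2 := Nat.and_two_pow_sub_one_eq_mod _ 1
      rw [a1, a2, Nat.testBit_eq_decide_div_mod_eq, pow_one]
      rcases Nat.mod_two_eq_zero_or_one (dotA 56 b c / 2) with h5 | h5 <;> rw [h5] <;> rfl
    rw [h, h1]
    cases i with
    | zero =>
      rw [Nat.testBit_zero]
      simp only [List.length_cons, List.getD_cons_zero]
      cases (dotA 56 b c).testBit 1 <;> simp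
    | succ i =>
      rw [Nat.testBit_succ]
      have : (((dotA 56 b c).testBit 1).toNat + 2 * sigl l c) / 2 = sigl l c := by
        cases (dotA 56 b c).testBit 1 <;> simp <;> omega
      rw [this, ih]
      simp

/-- check that `cl` are the columns of the parities of `bl`, and `bl` lies in the lattice -/
noncomputable def colsOK (bl cl : List ℕ) : Bool :=
  cond (Nat.beq cl.length 56) (cond (allI bl (fun i b => cond (memT b) (allI cl (fun q g =>
    Nat.beq (Nat.land (Nat.shiftRight g i) 1) (Nat.land (digF b q) 1)) 0) false) 0)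
    (allL cl (fun g => Nat.blt g (Nat.pow 2 bl.length))) false) false

theorem colsOK_spec {bl cl : List ℕ} (h : colsOK bl cl = true) :
    cl.length = 56 ∧ (∀ i < bl.length, vec (bl.getD i 0) ∈ M) ∧
    (∀ i < bl.length, ∀ q < 56, (cl.getD q 0).testBit i = decide (dig (bl.getD i 0) q % 2 = 1)) ∧
    ∀ q < 56, cl.getD q 0 < 2 ^ bl.length := by
  obtain ⟨h1, h⟩ := and_of_cond h
  obtain ⟨h2, h3⟩ := and_of_cond h
  have hl : cl.length = 56 := Nat.eq_of_beq_eq_true h1
  refine ⟨hl, fun i hi => ?_, fun i hi q hq => ?_, fun q hq => ?_⟩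
  · exact mem_of_memT (and_of_cond (allI_spec h2 i hi)).1
  · have h4 := allI_spec (and_of_cond (allI_spec h2 i hi)).2 q (by rw [hl]; exact hq)
    have h5 := Nat.eq_of_beq_eq_true h4
    rw [digF_eq, zero_add, zero_add] at h5
    have a1 : Nat.shiftRight (cl.getD q 0) i = cl.getD q 0 / 2 ^ i := Nat.shiftRight_eq_div_pow _ _
    have a2 : Nat.land (cl.getD q 0 / 2 ^ i) 1 = cl.getD q 0 / 2 ^ i % 2 := Nat.and_two_pow_sub_one_eq_mod _ 1
    have a3 : Nat.land (dig (bl.getD i 0) q) 1 = dig (bl.getD i 0) q % 2 := Nat.and_two_pow_sub_one_eq_mod _ 1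
    rw [a1, a2, a3] at h5
    rw [Nat.testBit_eq_decide_div_mod_eq, h5]
  · exact Nat.le_of_ble_eq_true (allL_spec h3 _ (getD_mem (by rw [hl]; exact hq)))

theorem sel_lt {l : List ℕ} {n : ℕ} (h : ∀ q < l.length, l.getD q 0 < 2 ^ n) (y : ℕ) : sel l y < 2 ^ n := by
  apply Nat.lt_pow_two_of_testBit
  intro i hi
  rw [testBit_sel]
  have e : xorB l.length (fun j => y.testBit j && (l.getD j 0).testBit i) = xorB l.length (fun _ => false) := by
    apply xorB_congr
    intro j hj
    rw [Nat.testBit_lt_two_pow (lt_of_lt_of_le (h j hj) (Nat.pow_le_pow_right (by norm_num) hi))]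
    simp
  rw [e, xorB_false]

/-- the parity equations -/
theorem sel_eq_sigl {bl cl : List ℕ} (h : colsOK bl cl = true) {x : RuVec} (hx : x ∈ M) :
    sel cl (fm x) = sigl bl (cm x) := by
  obtain ⟨hl, hm, hc, hlt⟩ := colsOK_spec h
  apply Nat.eq_of_testBit_eq
  intro i
  by_cases hi : i < bl.length
  · rw [testBit_sel, testBit_sigl, hl]
    simp only [hi, decide_true, Bool.true_and]
    have h1 := cong hx (hm i hi)
    have h3 : xorB 56 (fun q => (fm x).testBit q && (cl.getD q 0).testBit i) =
        xorB 56 (fun q => decide ((((dig (bl.getD i 0) q % 4) * ((fm x).testBit q).toNat : ℕ) : ℤ) % 2 = 1)) := by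
      apply xorB_congr
      intro q hq
      rw [hc i hi q hq]
      exact par_of _ _
    rw [h3, xorB_odd, ← Nat.cast_sum, ← dotA_eq, par_cast]
    exact bit1_of _ _ h1
  · have h1 : sel cl (fm x) < 2 ^ i :=
      lt_of_lt_of_le (sel_lt (fun q hq => hlt q (by omega)) _) (Nat.pow_le_pow_right (by norm_num) (by omega))
    rw [Nat.testBit_lt_two_pow h1, testBit_sigl]
    simp [hi]

/-! ### search over few columns -/

/-- `P` holds at `t` xor every sum of at most `k` nonzero columns -/
noncomputable def srch (P : ℕ → Bool) (l : List ℕ) : ℕ → ℕ → Bool :=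
  List.rec (motive := fun _ => ℕ → ℕ → Bool) (fun _ t => P t)
    (fun g _ ih k t => cond (Nat.beq g 0) (ih k t)
      (Nat.rec (motive := fun _ => Bool) (P t)
        (fun k' _ => cond (ih (Nat.succ k') t) (strict (Nat.xor t g) (fun t' => ih k' t')) false) k)) l

theorem sel_of_weight_zero {l : List ℕ} {f : ℕ}
    (h : ∀ q < l.length, (f.testBit q && !(Nat.beq (l.getD q 0) 0)) = false) : sel l f = 0 := by
  apply Nat.eq_of_testBit_eq
  intro i
  rw [testBit_sel, Nat.zero_testBit]
  have e : xorB l.length (fun j => f.testBit j && (l.getD j 0).testBit i) = xorB l.length (fun _ => false) := by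
    apply xorB_congr
    intro j hj
    have h1 := h j hj
    cases hf : f.testBit j with
    | false => rfl
    | true =>
      rw [hf] at h1
      have h2 : Nat.beq (l.getD j 0) 0 = true := by simpa using h1
      rw [Nat.eq_of_beq_eq_true h2, Nat.zero_testBit]
      rfl
  rw [e, xorB_false]

theorem srch_spec {P : ℕ → Bool} {l : List ℕ} {k t : ℕ} (h : srch P l k t = true) (f : ℕ)
    (hf : ∑ q ∈ Finset.range l.length, (f.testBit q && !(Nat.beq (l.getD q 0) 0)).toNat ≤ k) :
    P (t ^^^ sel l f) = true := by
  induction l generalizing k t f with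
  | nil =>
    have : sel [] f = 0 := sel_of_weight_zero (fun q hq => absurd hq (by simp))
    rw [this, Nat.xor_zero]
    exact h
  | cons g l ih =>
    rw [List.length_cons, Finset.sum_range_succ'] at hf
    have e1 : ∀ q, (f.testBit (q + 1) && !(Nat.beq ((g :: l).getD (q + 1) 0) 0)) =
        ((f / 2).testBit q && !(Nat.beq (l.getD q 0) 0)) := by
      intro q
      rw [Nat.testBit_succ, List.getD_cons_succ]
    simp only [e1, List.getD_cons_zero] at hf
    rw [sel_cons]
    have h' : cond (Nat.beq g 0) (srch P l k t)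
      (Nat.rec (motive := fun _ => Bool) (P t)
        (fun k' _ => cond (srch P l (Nat.succ k') t) (strict (Nat.xor t g) (fun t' => srch P l k' t')) false) k)
        = true := h
    cases hg : Nat.beq g 0 with
    | true =>
      rw [hg, cond_true] at h'
      have hg0 : g = 0 := Nat.eq_of_beq_eq_true hg
      have : (bif f.testBit 0 then g else 0) = 0 := by rw [hg0]; cases f.testBit 0 <;> rfl
      rw [this, Nat.zero_xor]
      exact ih h' (f / 2) (by omega)
    | false =>
      rw [hg, cond_false] at h'
      rw [hg] at hf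
      cases k with
      | zero =>
        have h0 : ∀ q ∈ Finset.range l.length, ((f / 2).testBit q && !(Nat.beq (l.getD q 0) 0)).toNat = 0 := by
          have : ∑ q ∈ Finset.range l.length, ((f / 2).testBit q && !(Nat.beq (l.getD q 0) 0)).toNat = 0 := by omega
          exact Finset.sum_eq_zero_iff.1 this
        have hs : sel l (f / 2) = 0 := by
          apply sel_of_weight_zero
          intro q hq
          have := h0 q (Finset.mem_range.2 hq)
          cases hh : ((f / 2).testBit q && !(Nat.beq (l.getD q 0) 0)) with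
          | false => rfl
          | true => rw [hh] at this; simp at this
        have hb : f.testBit 0 = false := by
          cases hh : f.testBit 0 with
          | false => rfl
          | true => rw [hh] at hf; simp at hf
        rw [hs, hb, cond_false, Nat.xor_zero, Nat.xor_zero]
        exact h'
      | succ k =>
        obtain ⟨h1, h2⟩ := and_of_cond h'
        rw [strict_eq] at h2
        cases hb : f.testBit 0 with
        | false =>
          rw [cond_false, Nat.zero_xor]
          exact ih h1 (f / 2) (by omega)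
        | true =>
          rw [hb] at hf
          simp only [Bool.not_false, Bool.and_self, Bool.toNat_true] at hf
          rw [cond_true, ← Nat.xor_assoc]
          exact ih h2 (f / 2) (by omega)

/-- no nonzero sum of at most `k + 1` columns vanishes -/
noncomputable def sufs (k : ℕ) (l : List ℕ) : Bool :=
  List.rec (motive := fun _ => Bool) true
    (fun g l' ih => cond (srch (fun t => Nat.blt 0 t) l' k g) ih false) l

theorem sufs_spec {k : ℕ} {l : List ℕ} (h : sufs k l = true) (f : ℕ)
    (hf : ∑ q ∈ Finset.range l.length, (f.testBit q).toNat ≤ k + 1)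
    (h0 : ∃ q < l.length, f.testBit q = true) : sel l f ≠ 0 := by
  induction l generalizing f with
  | nil => obtain ⟨q, hq, _⟩ := h0; simp at hq
  | cons g l ih =>
    obtain ⟨h1, h2⟩ := and_of_cond h
    rw [List.length_cons, Finset.sum_range_succ'] at hf
    simp only [Nat.testBit_succ] at hf
    rw [sel_cons]
    cases hb : f.testBit 0 with
    | true =>
      rw [hb] at hf
      simp only [Bool.toNat_true] at hf
      have h3 := srch_spec h1 (f / 2) (le_trans (Finset.sum_le_sum fun q _ => (by
        cases (f / 2).testBit q <;> cases (Nat.beq (l.getD q 0) 0) <;> simp :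
        ((f / 2).testBit q && !(Nat.beq (l.getD q 0) 0)).toNat ≤ ((f / 2).testBit q).toNat)) (by omega))
      have h4 : 0 < g ^^^ sel l (f / 2) := Nat.le_of_ble_eq_true h3
      rw [cond_true]
      omega
    | false =>
      rw [cond_false, Nat.zero_xor]
      refine ih h2 (f / 2) (by omega) ?_
      obtain ⟨q, hq, hq2⟩ := h0
      cases q with
      | zero => rw [hb] at hq2; exact absurd hq2 (by simp)
      | succ q => exact ⟨q, by simpa using hq, by rwa [Nat.testBit_succ] at hq2⟩

end Cfsg.Agent.Ru900.Sig
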