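import Cfsg.Agent.Ru900.Words
import Cfsg.Agent.RuLat.Data

/-!
Sign stage for the minimal vectors of the Rudvalis lattice: definitions and soundness.
-/

set_option autoImplicit false
set_option maxRecDepth 100000
set_option exponentiation.threshold 600000
set_option maxHeartbeats 400000

namespace Cfsg.Agent.Ru900.SignDef

open Cfsg.Spor Cfsg.Agent.Ru900.Coord Cfsg.Agent.Ru900.Pack Cfsg.Agent.Ru900.Data Cfsg.Agent.Ru900.Lat
  Cfsg.Agent.Ru900.Eq Cfsg.Agent.Ru900.TT Cfsg.Agent.Ru900.Data2 Cfsg.Agent.Ru900.Scan Cfsg.Agent.Ru900.Sig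
  Cfsg.Agent.Ru900.Short Cfsg.Agent.Ru900.Words

theorem land_1 (c : ℕ) : Nat.land c 1 = c % 2 := Nat.and_two_pow_sub_one_eq_mod c 1

theorem shiftRight_1 (c : ℕ) : Nat.shiftRight c 1 = c / 2 := Nat.shiftRight_eq_div_pow c 1

/-! ### compression of a mask -/

/-- selected entries -/
noncomputable def pick (l : List ℕ) : ℕ → List ℕ :=
  List.rec (motive := fun _ => ℕ → List ℕ) (fun _ => [])
    (fun g _ ih c => cond (Nat.beq (Nat.land c 1) 0) (ih (Nat.shiftRight c 1)) (g :: ih (Nat.shiftRight c 1))) l

/-- bits of `f` at the positions of `c` -/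
noncomputable def comp (n : ℕ) : ℕ → ℕ → ℕ :=
  Nat.rec (motive := fun _ => ℕ → ℕ → ℕ) (fun _ _ => 0)
    (fun _ ih c f => cond (Nat.beq (Nat.land c 1) 0) (ih (Nat.shiftRight c 1) (Nat.shiftRight f 1))
      (Nat.add (Nat.land f 1) (Nat.mul 2 (ih (Nat.shiftRight c 1) (Nat.shiftRight f 1))))) n

theorem pick_cons (g : ℕ) (l : List ℕ) (c : ℕ) :
    pick (g :: l) c = if c % 2 = 0 then pick l (c / 2) else g :: pick l (c / 2) := by
  have h : pick (g :: l) c = cond (Nat.beq (Nat.land c 1) 0) (pick l (Nat.shiftRight c 1))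
    (g :: pick l (Nat.shiftRight c 1)) := rfl
  rw [h, land_1, shiftRight_1]
  rcases Nat.mod_two_eq_zero_or_one c with h3 | h3 <;> rw [h3] <;> rfl

theorem comp_succ (n c f : ℕ) :
    comp (n + 1) c f = if c % 2 = 0 then comp n (c / 2) (f / 2) else f % 2 + 2 * comp n (c / 2) (f / 2) := by
  have h : comp (n + 1) c f = cond (Nat.beq (Nat.land c 1) 0) (comp n (Nat.shiftRight c 1) (Nat.shiftRight f 1))
      (Nat.land f 1 + 2 * comp n (Nat.shiftRight c 1) (Nat.shiftRight f 1)) := rfl
  rw [h, land_1, shiftRight_1, land_1, shiftRight_1]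
  rcases Nat.mod_two_eq_zero_or_one c with h3 | h3 <;> rw [h3] <;> rfl

theorem sel_pick (l : List ℕ) (c f : ℕ) (hf : ∀ q < l.length, f.testBit q = true → c.testBit q = true) :
    sel l f = sel (pick l c) (comp l.length c f) := by
  induction l generalizing c f with
  | nil => rfl
  | cons g l ih =>
    rw [List.length_cons] at hf ⊢
    have hf' : ∀ q < l.length, (f / 2).testBit q = true → (c / 2).testBit q = true := by
      intro q hq h
      have := hf (q + 1) (by omega) (by rwa [Nat.testBit_succ])
      rwa [Nat.testBit_succ] at this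
    rw [sel_cons, pick_cons, comp_succ, ih (c / 2) (f / 2) hf']
    rcases Nat.mod_two_eq_zero_or_one c with h3 | h3
    · have hb : f.testBit 0 = false := by
        cases h : f.testBit 0 with
        | false => rfl
        | true =>
          have := hf 0 (by omega) h
          rw [Nat.testBit_zero, h3] at this
          exact absurd this (by simp)
      rw [hb, if_pos h3, if_pos h3, cond_false, Nat.zero_xor]
    · have h4 : ¬ (c % 2 = 0) := by omega
      rw [if_neg h4, if_neg h4, sel_cons]
      have e1 : (f % 2 + 2 * comp l.length (c / 2) (f / 2)).testBit 0 = f.testBit 0 := by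
        rw [Nat.testBit_zero, Nat.testBit_zero]
        exact decide_eq_decide.2 (by omega)
      have e2 : (f % 2 + 2 * comp l.length (c / 2) (f / 2)) / 2 = comp l.length (c / 2) (f / 2) := by omega
      rw [e1, e2]

theorem comp_lt (n c f : ℕ) : comp n c f < 2 ^ (∑ q ∈ Finset.range n, (c.testBit q).toNat) := by
  induction n generalizing c f with
  | zero =>
    have : comp 0 c f = 0 := rfl
    rw [this]; simp
  | succ n ih =>
    rw [comp_succ, Finset.sum_range_succ']
    simp only [Nat.testBit_succ]
    have h := ih (c / 2) (f / 2)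
    rcases Nat.mod_two_eq_zero_or_one c with h3 | h3
    · have : (c.testBit 0).toNat = 0 := by rw [Nat.testBit_zero, h3]; rfl
      rw [if_pos h3, this, add_zero]
      exact h
    · have : (c.testBit 0).toNat = 1 := by rw [Nat.testBit_zero, h3]; rfl
      have h4 : ¬ (c % 2 = 0) := by omega
      rw [if_neg h4, this, pow_succ]
      omega

theorem comp_inj (n c f g : ℕ) (hf : ∀ q < n, f.testBit q = true → c.testBit q = true)
    (hg : ∀ q < n, g.testBit q = true → c.testBit q = true) (h : comp n c f = comp n c g) :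
    ∀ q < n, f.testBit q = g.testBit q := by
  induction n generalizing c f g with
  | zero => intro q hq; omega
  | succ n ih =>
    have hf' : ∀ q < n, (f / 2).testBit q = true → (c / 2).testBit q = true := by
      intro q hq h
      have := hf (q + 1) (by omega) (by rwa [Nat.testBit_succ])
      rwa [Nat.testBit_succ] at this
    have hg' : ∀ q < n, (g / 2).testBit q = true → (c / 2).testBit q = true := by
      intro q hq h
      have := hg (q + 1) (by omega) (by rwa [Nat.testBit_succ])
      rwa [Nat.testBit_succ] at this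
    rw [comp_succ, comp_succ] at h
    rcases Nat.mod_two_eq_zero_or_one c with h3 | h3
    · rw [if_pos h3, if_pos h3] at h
      intro q hq
      cases q with
      | zero =>
        have e1 : f.testBit 0 = false := by
          cases hh : f.testBit 0 with
          | false => rfl
          | true =>
            have := hf 0 (by omega) hh
            rw [Nat.testBit_zero, h3] at this
            exact absurd this (by simp)
        have e2 : g.testBit 0 = false := by
          cases hh : g.testBit 0 with
          | false => rfl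
          | true =>
            have := hg 0 (by omega) hh
            rw [Nat.testBit_zero, h3] at this
            exact absurd this (by simp)
        rw [e1, e2]
      | succ q =>
        rw [Nat.testBit_succ, Nat.testBit_succ]
        exact ih (c / 2) (f / 2) (g / 2) hf' hg' h q (by omega)
    · have h4 : ¬ (c % 2 = 0) := by omega
      rw [if_neg h4, if_neg h4] at h
      have h5 : f % 2 = g % 2 ∧ comp n (c / 2) (f / 2) = comp n (c / 2) (g / 2) := by omega
      intro q hq
      cases q with
      | zero => rw [Nat.testBit_zero, Nat.testBit_zero, h5.1]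
      | succ q =>
        rw [Nat.testBit_succ, Nat.testBit_succ]
        exact ih (c / 2) (f / 2) (g / 2) hf' hg' h5.2 q (by omega)

/-! ### the solutions of the sign equations -/

/-- truth table of `sel l y = s` on the bits below `m` -/
noncomputable def eqT (n : ℕ) (l : List ℕ) (s : ℕ) (m : ℕ) : ℕ :=
  Nat.rec (motive := fun _ => ℕ) (ones n)
    (fun j ih => Nat.land ih (cond (Nat.beq (Nat.land (Nat.shiftRight s j) 1) 0)
      (Nat.xor (ones n) (tt n l j 0)) (tt n l j 0))) m

theorem eqT_spec (n : ℕ) (l : List ℕ) (s m y : ℕ) (hy : y < 2 ^ n) (hl : l.length ≤ n) (h : sel l y = s) :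
    (eqT n l s m).testBit y = true := by
  induction m with
  | zero =>
    show (ones n).testBit y = true
    rw [testBit_ones]
    exact decide_eq_true hy
  | succ m ih =>
    have e : eqT n l s (m + 1) = eqT n l s m &&& (cond (Nat.beq (Nat.land (Nat.shiftRight s m) 1) 0)
      (ones n ^^^ tt n l m 0) (tt n l m 0)) := rfl
    rw [e, Nat.testBit_and, ih, beq_land]
    have e2 := testBit_tt_zero n l m y hy hl
    rw [h] at e2
    cases hs : s.testBit m with
    | true =>
      rw [hs] at e2
      simp [e2]
    | false =>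
      rw [hs] at e2
      simp [e2, testBit_ones, hy]

/-! ### lines -/

/-- odd mask of the line `i` -/
noncomputable def lcC (i : ℕ) : ℕ :=
  @List.rec (ℕ × ℕ × ℕ) (fun _ => ℕ) 0
    (fun t _ ih => Nat.add (Nat.add (Nat.land (Nat.shiftRight t.1 i) 1) (Nat.mul 2 (Nat.land (Nat.shiftRight t.2.1 i) 1)))
      (Nat.mul 4 ih)) RuLat.planes

/-- negative mask of the line `i` -/
noncomputable def lcF (i : ℕ) : ℕ :=
  @List.rec (ℕ × ℕ × ℕ) (fun _ => ℕ) 0
    (fun t _ ih => Nat.add (cond (Nat.beq (Nat.land (Nat.shiftRight t.2.2 i) 1) 0) 0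
      (Nat.add (Nat.land (Nat.shiftRight t.1 i) 1) (Nat.mul 2 (Nat.land (Nat.shiftRight t.2.1 i) 1))))
      (Nat.mul 4 ih)) RuLat.planes

theorem land_shift (s j : ℕ) : Nat.land (Nat.shiftRight s j) 1 = (s.testBit j).toNat := by
  have a1 : Nat.shiftRight s j = s / 2 ^ j := Nat.shiftRight_eq_div_pow _ _
  rw [a1, land_1, Nat.testBit_eq_decide_div_mod_eq]
  rcases Nat.mod_two_eq_zero_or_one (s / 2 ^ j) with h3 | h3 <;> rw [h3] <;> rfl

theorem bits_aux (a b : Bool) (m q : ℕ) :
    (a.toNat + 2 * b.toNat + 4 * m).testBit (2 * q) = (if q = 0 then a else m.testBit (2 * (q - 1))) ∧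
    (a.toNat + 2 * b.toNat + 4 * m).testBit (2 * q + 1) = (if q = 0 then b else m.testBit (2 * (q - 1) + 1)) := by
  have h1 : (a.toNat + 2 * b.toNat + 4 * m) / 2 = b.toNat + 2 * m := by
    cases a <;> cases b <;> simp <;> omega
  have h2 : (b.toNat + 2 * m) / 2 = m := by cases b <;> simp <;> omega
  cases q with
  | zero =>
    refine ⟨?_, ?_⟩
    · rw [mul_zero, Nat.testBit_zero, if_pos rfl]
      cases a <;> cases b <;> simp <;> omega
    · rw [mul_zero, zero_add, if_pos rfl]
      have : (a.toNat + 2 * b.toNat + 4 * m).testBit 1 = ((a.toNat + 2 * b.toNat + 4 * m) / 2).testBit 0 :=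
        Nat.testBit_succ _ _
      rw [this, h1, Nat.testBit_zero]
      cases b <;> simp <;> omega
  | succ q =>
    have e1 : 2 * (q + 1) = (2 * q + 1) + 1 := by ring
    refine ⟨?_, ?_⟩
    · rw [if_neg (by omega), e1, Nat.testBit_succ, h1, Nat.testBit_succ, h2]
      rfl
    · rw [if_neg (by omega), e1, Nat.testBit_succ, h1, Nat.testBit_succ, h2]
      rfl

theorem lc_list (l : List (ℕ × ℕ × ℕ)) (i q : ℕ) (hq : q < l.length) :
    (@List.rec (ℕ × ℕ × ℕ) (fun _ => ℕ) 0
      (fun t _ ih => Nat.add (Nat.add (Nat.land (Nat.shiftRight t.1 i) 1)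
        (Nat.mul 2 (Nat.land (Nat.shiftRight t.2.1 i) 1))) (Nat.mul 4 ih)) l).testBit (2 * q) =
      (l.getD q (0, 0, 0)).1.testBit i ∧
    (@List.rec (ℕ × ℕ × ℕ) (fun _ => ℕ) 0
      (fun t _ ih => Nat.add (Nat.add (Nat.land (Nat.shiftRight t.1 i) 1)
        (Nat.mul 2 (Nat.land (Nat.shiftRight t.2.1 i) 1))) (Nat.mul 4 ih)) l).testBit (2 * q + 1) =
      (l.getD q (0, 0, 0)).2.1.testBit i := by
  have e : ∀ (t : ℕ × ℕ × ℕ) (m : ℕ), Nat.add (Nat.add (Nat.land (Nat.shiftRight t.1 i) 1)
      (Nat.mul 2 (Nat.land (Nat.shiftRight t.2.1 i) 1))) (Nat.mul 4 m) =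
      (t.1.testBit i).toNat + 2 * (t.2.1.testBit i).toNat + 4 * m := by
    intro t m
    rw [land_shift, land_shift]
    rfl
  simp only [e]
  induction l generalizing q with
  | nil => simp at hq
  | cons t l ih =>
    have h := bits_aux (t.1.testBit i) (t.2.1.testBit i) (@List.rec (ℕ × ℕ × ℕ) (fun _ => ℕ) 0
      (fun t _ ih => (t.1.testBit i).toNat + 2 * (t.2.1.testBit i).toNat + 4 * ih) l) q
    rw [h.1, h.2]
    cases q with
    | zero => exact ⟨rfl, rfl⟩
    | succ q =>
      have := ih q (by simpa using hq)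
      rw [if_neg (by omega), if_neg (by omega)]
      simpa using this

theorem lf_list (l : List (ℕ × ℕ × ℕ)) (i q : ℕ) (hq : q < l.length) :
    (@List.rec (ℕ × ℕ × ℕ) (fun _ => ℕ) 0
      (fun t _ ih => Nat.add (cond (Nat.beq (Nat.land (Nat.shiftRight t.2.2 i) 1) 0) 0
      (Nat.add (Nat.land (Nat.shiftRight t.1 i) 1) (Nat.mul 2 (Nat.land (Nat.shiftRight t.2.1 i) 1))))
      (Nat.mul 4 ih)) l).testBit (2 * q) =
      ((l.getD q (0, 0, 0)).1.testBit i && (l.getD q (0, 0, 0)).2.2.testBit i) ∧
    (@List.rec (ℕ × ℕ × ℕ) (fun _ => ℕ) 0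
      (fun t _ ih => Nat.add (cond (Nat.beq (Nat.land (Nat.shiftRight t.2.2 i) 1) 0) 0
      (Nat.add (Nat.land (Nat.shiftRight t.1 i) 1) (Nat.mul 2 (Nat.land (Nat.shiftRight t.2.1 i) 1))))
      (Nat.mul 4 ih)) l).testBit (2 * q + 1) =
      ((l.getD q (0, 0, 0)).2.1.testBit i && (l.getD q (0, 0, 0)).2.2.testBit i) := by
  have e : ∀ (t : ℕ × ℕ × ℕ) (m : ℕ), Nat.add (cond (Nat.beq (Nat.land (Nat.shiftRight t.2.2 i) 1) 0) 0
      (Nat.add (Nat.land (Nat.shiftRight t.1 i) 1) (Nat.mul 2 (Nat.land (Nat.shiftRight t.2.1 i) 1))))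
      (Nat.mul 4 m) =
        (t.1.testBit i && t.2.2.testBit i).toNat + 2 * (t.2.1.testBit i && t.2.2.testBit i).toNat + 4 * m := by
    intro t m
    rw [beq_land, land_shift, land_shift]
    cases t.2.2.testBit i <;> simp
  simp only [e]
  induction l generalizing q with
  | nil => simp at hq
  | cons t l ih =>
    have h := bits_aux (t.1.testBit i && t.2.2.testBit i) (t.2.1.testBit i && t.2.2.testBit i)
      (@List.rec (ℕ × ℕ × ℕ) (fun _ => ℕ) 0 (fun t _ ih =>
        (t.1.testBit i && t.2.2.testBit i).toNat + 2 * (t.2.1.testBit i && t.2.2.testBit i).toNat + 4 * ih) l) q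
    rw [h.1, h.2]
    cases q with
    | zero => exact ⟨rfl, rfl⟩
    | succ q =>
      have := ih q (by simpa using hq)
      rw [if_neg (by omega), if_neg (by omega)]
      simpa using this

theorem planes_len : RuLat.planes.length = 28 := rfl

theorem lcC_bits (i p : ℕ) (hp : p < 28) : (lcC i).testBit (2 * p) = (RuLat.pR p).testBit i ∧
    (lcC i).testBit (2 * p + 1) = (RuLat.pI p).testBit i :=
  lc_list RuLat.planes i p (by rw [planes_len]; exact hp)

theorem lcF_bits (i p : ℕ) (hp : p < 28) :
    (lcF i).testBit (2 * p) = ((RuLat.pR p).testBit i && (RuLat.pS p).testBit i) ∧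
    (lcF i).testBit (2 * p + 1) = ((RuLat.pI p).testBit i && (RuLat.pS p).testBit i) :=
  lf_list RuLat.planes i p (by rw [planes_len]; exact hp)

/-! ### representation by masks -/

/-- `v` has coordinates `0, ± 1` given by the masks `c`, `f` -/
def Rep (v : RuVec) (c f : ℕ) : Prop :=
  ∀ q < 56, crd v q = if c.testBit q then (if f.testBit q then -1 else 1) else 0

theorem rep_unique {v w : RuVec} {c f g : ℕ} (hv : Rep v c f) (hw : Rep w c g)
    (h : ∀ q < 56, f.testBit q = g.testBit q) : v = w := by
  apply ext_crd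
  intro q hq
  rw [hv q hq, hw q hq, h q hq]

theorem crd_vec_line (i p : ℕ) (hp : p < 28) (hi : RuLat.frameMask.testBit i = false) :
    crd (RuLat.vec i) (2 * p) = (if (RuLat.pR p).testBit i then (if (RuLat.pS p).testBit i then -1 else 1) else 0) ∧
    crd (RuLat.vec i) (2 * p + 1) =
      (if (RuLat.pI p).testBit i then (if (RuLat.pS p).testBit i then -1 else 1) else 0) := by
  have hs : RuLat.scale i = 1 := by unfold RuLat.scale; rw [hi]; rfl
  have key : ∀ n : Fin 7, ∀ t : Fin 4, RuLat.vec i (n, t) = RuLat.uent i (4 * n.val + t.val) := by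
    intro n t
    show RuLat.scale i * RuLat.uent i (RuLat.cn (n, t)) = _
    rw [hs, one_mul]; rfl
  have h1 : p / 4 < 7 := by omega
  have h2 : p % 4 < 4 := by omega
  have e1 : 2 * p = 8 * (⟨p / 4, h1⟩ : Fin 7).val + 2 * (⟨p % 4, h2⟩ : Fin 4).val := by
    show 2 * p = 8 * (p / 4) + 2 * (p % 4); omega
  have e2 : 4 * (⟨p / 4, h1⟩ : Fin 7).val + (⟨p % 4, h2⟩ : Fin 4).val = p := by
    show 4 * (p / 4) + p % 4 = p; omega
  rw [e1, crd_re, crd_im, key, e2]
  exact ⟨rfl, rfl⟩

theorem rep_line (i : ℕ) (hi : RuLat.frameMask.testBit i = false) : Rep (RuLat.vec i) (lcC i) (lcF i) := by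
  intro q hq
  rcases Nat.even_or_odd' q with ⟨p, hp | hp⟩
  · subst hp
    have hp' : p < 28 := by omega
    rw [(crd_vec_line i p hp' hi).1, (lcC_bits i p hp').1, (lcF_bits i p hp').1]
    cases (RuLat.pR p).testBit i <;> cases (RuLat.pS p).testBit i <;> rfl
  · subst hp
    have hp' : p < 28 := by omega
    rw [(crd_vec_line i p hp' hi).2, (lcC_bits i p hp').2, (lcF_bits i p hp').2]
    cases (RuLat.pI p).testBit i <;> cases (RuLat.pS p).testBit i <;> rfl

/-- real part positions -/
def ev : ℕ := 0x55555555555555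

theorem testBit_ev (p : ℕ) (hp : p < 28) : ev.testBit (2 * p) = true ∧ ev.testBit (2 * p + 1) = false := by
  interval_cases p <;> decide

/-- multiplication by `i`, odd mask -/
def mC (c : ℕ) : ℕ := Nat.lor (Nat.shiftLeft (Nat.land c ev) 1) (Nat.land (Nat.shiftRight c 1) ev)

/-- multiplication by `i`, negative mask -/
def mF (c f : ℕ) : ℕ :=
  Nat.lor (Nat.shiftLeft (Nat.land f ev) 1) (Nat.land (Nat.shiftRight (Nat.xor c (Nat.land c f)) 1) ev)

theorem mC_bits (c p : ℕ) (hp : p < 28) : (mC c).testBit (2 * p) = c.testBit (2 * p + 1) ∧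
    (mC c).testBit (2 * p + 1) = c.testBit (2 * p) := by
  have e : mC c = ((c &&& ev) <<< 1) ||| ((c >>> 1) &&& ev) := rfl
  obtain ⟨h1, h2⟩ := testBit_ev p hp
  rw [e]
  simp only [Nat.testBit_or, Nat.testBit_and, Nat.testBit_shiftLeft, Nat.testBit_shiftRight, h1, h2]
  refine ⟨?_, ?_⟩
  · rw [Nat.add_comm 1 (2 * p)]
    have : (decide (1 ≤ 2 * p) && (c.testBit (2 * p - 1) && ev.testBit (2 * p - 1))) = false := by
      cases p with
      | zero => rfl
      | succ p =>
        have := (testBit_ev p (by omega)).2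
        rw [show 2 * (p + 1) - 1 = 2 * p + 1 by omega, this]
        simp
    rw [this]; simp
  · simp [h1]

theorem mF_bits (c f p : ℕ) (hp : p < 28) :
    (mF c f).testBit (2 * p) = (c.testBit (2 * p + 1) && !f.testBit (2 * p + 1)) ∧
    (mF c f).testBit (2 * p + 1) = f.testBit (2 * p) := by
  have e : mF c f = ((f &&& ev) <<< 1) ||| (((c ^^^ (c &&& f)) >>> 1) &&& ev) := rfl
  obtain ⟨h1, h2⟩ := testBit_ev p hp
  rw [e]
  simp only [Nat.testBit_or, Nat.testBit_and, Nat.testBit_shiftLeft, Nat.testBit_shiftRight, h1, h2,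
    Nat.testBit_xor]
  refine ⟨?_, ?_⟩
  · rw [Nat.add_comm 1 (2 * p)]
    have : (decide (1 ≤ 2 * p) && (f.testBit (2 * p - 1) && ev.testBit (2 * p - 1))) = false := by
      cases p with
      | zero => rfl
      | succ p =>
        have := (testBit_ev p (by omega)).2
        rw [show 2 * (p + 1) - 1 = 2 * p + 1 by omega, this]
        simp
    rw [this]
    cases c.testBit (2 * p + 1) <;> cases f.testBit (2 * p + 1) <;> rfl
  · simp [h1]

theorem crd_gI (v : RuVec) (p : ℕ) (hp : p < 28) : crd (gI • v) (2 * p) = -crd v (2 * p + 1) ∧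
    crd (gI • v) (2 * p + 1) = crd v (2 * p) := by
  have hre : ∀ z : GaussianInt, (gI * z).re = -z.im := fun z => by simp [gI]
  have him : ∀ z : GaussianInt, (gI * z).im = z.re := fun z => by simp [gI]
  interval_cases p <;> exact ⟨hre _, him _⟩

theorem rep_mul {v : RuVec} {c f : ℕ} (h : Rep v c f) : Rep (gI • v) (mC c) (mF c f) := by
  intro q hq
  rcases Nat.even_or_odd' q with ⟨p, hp | hp⟩
  · subst hp
    have hp' : p < 28 := by omega
    rw [(crd_gI v p hp').1, h (2 * p + 1) (by omega), (mC_bits c p hp').1, (mF_bits c f p hp').1]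
    cases c.testBit (2 * p + 1) <;> cases f.testBit (2 * p + 1) <;> rfl
  · subst hp
    have hp' : p < 28 := by omega
    rw [(crd_gI v p hp').2, h (2 * p) (by omega), (mC_bits c p hp').2, (mF_bits c f p hp').2]

/-- masks of `gI ^ e • vec i`, passed to a continuation -/
noncomputable def um (e : ℕ) : ℕ → ℕ → (ℕ → ℕ → ℕ) → ℕ :=
  Nat.rec (motive := fun _ => ℕ → ℕ → (ℕ → ℕ → ℕ) → ℕ) (fun c f k => k c f)
    (fun _ ih c f k => strict (mC c) (fun c' => strict (mF c f) (fun f' => ih c' f' k))) e

theorem um_spec (e : ℕ) (v : RuVec) (c f : ℕ) (k : ℕ → ℕ → ℕ) (h : Rep v c f) :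
    ∃ c' f', Rep (gI ^ e • v) c' f' ∧ um e c f k = k c' f' := by
  induction e generalizing v c f with
  | zero => exact ⟨c, f, by rw [pow_zero, one_smul]; exact h, rfl⟩
  | succ e ih =>
    obtain ⟨c', f', h1, h2⟩ := ih (gI • v) (mC c) (mF c f) (rep_mul h)
    refine ⟨c', f', ?_, ?_⟩
    · rwa [smul_smul, ← pow_succ] at h1
    · have e1 : um (e + 1) c f k = strict (mC c) (fun c' => strict (mF c f) (fun f' => um e c' f' k)) := rfl
      rw [e1, strict_eq, strict_eq, h2]

/-! ### the check of one word -/

/-- mask of the compressed sign patterns of the known vectors; `S` is the list of the vectors -/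
noncomputable def known (c : ℕ) (n : ℕ) : ℕ → ℕ :=
  Nat.rec (motive := fun _ => ℕ → ℕ) (fun _ => 0)
    (fun _ ih S => cond (Nat.beq S 0) 0
      (Nat.lor (strict (Nat.land S 4095) (fun i => cond (Nat.beq (Nat.land (Nat.shiftRight RuLat.frameMask i) 1) 0)
          (strict (lcC i) (fun c0 => strict (lcF i) (fun f0 =>
            um (Nat.land (Nat.shiftRight S 12) 3) c0 f0 (fun c' f' =>
              cond (Nat.beq c' c) (Nat.shiftLeft 1 (comp 56 c f')) 0)))) 0))
        (ih (Nat.shiftRight S 14)))) n

theorem known_spec (c n S b : ℕ) (h : (known c n S).testBit b = true) :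
    ∃ i e f', i < 4096 ∧ e < 4 ∧ RuLat.frameMask.testBit i = false ∧ Rep (gI ^ e • RuLat.vec i) c f' ∧
      comp 56 c f' = b := by
  induction n generalizing S with
  | zero =>
    have : (0 : ℕ).testBit b = true := h
    rw [Nat.zero_testBit] at this
    exact absurd this (by simp)
  | succ n ih =>
    have h' : (cond (Nat.beq S 0) 0
      ((strict (Nat.land S 4095) (fun i => cond (Nat.beq (Nat.land (Nat.shiftRight RuLat.frameMask i) 1) 0)
          (strict (lcC i) (fun c0 => strict (lcF i) (fun f0 =>
            um (Nat.land (Nat.shiftRight S 12) 3) c0 f0 (fun c' f' =>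
              cond (Nat.beq c' c) (Nat.shiftLeft 1 (comp 56 c f')) 0)))) 0)) |||
        (known c n (Nat.shiftRight S 14))) : ℕ).testBit b = true := h
    cases hS : Nat.beq S 0 with
    | true =>
      rw [hS, cond_true, Nat.zero_testBit] at h'
      exact absurd h' (by simp)
    | false =>
      rw [hS, cond_false, Nat.testBit_or, Bool.or_eq_true] at h'
      rcases h' with h' | h'
      · rw [strict_eq, beq_land] at h'
        have hi : Nat.land S 4095 < 4096 := by
          have : Nat.land S 4095 = S % 4096 := Nat.and_two_pow_sub_one_eq_mod S 12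
          rw [this]; exact Nat.mod_lt _ (by norm_num)
        cases hf : RuLat.frameMask.testBit (Nat.land S 4095) with
        | true =>
          rw [hf] at h'
          have : (0 : ℕ).testBit b = true := h'
          rw [Nat.zero_testBit] at this
          exact absurd this (by simp)
        | false =>
          rw [hf, Bool.not_false, cond_true, strict_eq, strict_eq] at h'
          obtain ⟨c', f', h1, h2⟩ := um_spec (Nat.land (Nat.shiftRight S 12) 3) (RuLat.vec (Nat.land S 4095))
            (lcC (Nat.land S 4095)) (lcF (Nat.land S 4095)) (fun c' f' =>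
              cond (Nat.beq c' c) (Nat.shiftLeft 1 (comp 56 c f')) 0) (rep_line _ hf)
          rw [h2] at h'
          cases hc : Nat.beq c' c with
          | false =>
            rw [hc, cond_false, Nat.zero_testBit] at h'
            exact absurd h' (by simp)
          | true =>
            rw [hc, cond_true] at h'
            have e1 : Nat.shiftLeft 1 (comp 56 c f') = 2 ^ (comp 56 c f') := by
              have := Nat.shiftLeft_eq 1 (comp 56 c f')
              rw [one_mul] at this
              exact this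
            rw [e1, Nat.testBit_two_pow] at h'
            have hcc : c' = c := Nat.eq_of_beq_eq_true hc
            rw [hcc] at h1
            refine ⟨Nat.land S 4095, Nat.land (Nat.shiftRight S 12) 3, f', hi, ?_, hf, h1, by simpa using h'⟩
            have : Nat.land (Nat.shiftRight S 12) 3 = Nat.shiftRight S 12 % 4 :=
              Nat.and_two_pow_sub_one_eq_mod _ 2
            rw [this]; exact Nat.mod_lt _ (by norm_num)
      · exact ih _ h'

/-- all solutions of the sign equations of the word with message `y` are known -/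
noncomputable def wordOK (E : ℕ) : Bool :=
  strict (Nat.land E 524287) (fun y => strict (sel Gc y) (fun c => strict (sigp c) (fun s =>
    cond (Nat.beq (pc 56 c) 16) (strict (eqT 16 (pick Cc c) s 19) (fun T =>
      strict (known c 40 (Nat.shiftRight E 19)) (fun K => Nat.beq (Nat.land T K) T))) false)))

theorem pick_length (l : List ℕ) (c : ℕ) :
    (pick l c).length = ∑ q ∈ Finset.range l.length, (c.testBit q).toNat := by
  induction l generalizing c with
  | nil => rfl
  | cons g l ih =>
    rw [pick_cons, List.length_cons, Finset.sum_range_succ']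
    simp only [Nat.testBit_succ]
    rw [← ih]
    rcases Nat.mod_two_eq_zero_or_one c with h3 | h3
    · have : (c.testBit 0).toNat = 0 := by rw [Nat.testBit_zero, h3]; rfl
      rw [if_pos h3, this, add_zero]
    · have : (c.testBit 0).toNat = 1 := by rw [Nat.testBit_zero, h3]; rfl
      have h4 : ¬ (c % 2 = 0) := by omega
      rw [if_neg h4, this, List.length_cons]

theorem fm_sub {x : RuVec} (h : ∀ q < 56, crd x q =
    if (cm x).testBit q then (if (fm x).testBit q then -1 else 1) else 0) :
    ∀ q < 56, (fm x).testBit q = true → (cm x).testBit q = true := by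
  intro q hq hf
  have h1 := h q hq
  have h2 := testBit_fm x q hq
  cases hc : (cm x).testBit q with
  | true => rfl
  | false =>
    rw [hc] at h1
    have h3 : crd x q = 0 := by simpa using h1
    rw [h3, hf] at h2
    exact absurd h2 (by decide)

/-- soundness of the check of a word -/
theorem wordOK_spec {E : ℕ} (hE : wordOK E = true) {x : RuVec} (hx : x ∈ M)
    (h : ∀ q < 56, crd x q = if (cm x).testBit q then (if (fm x).testBit q then -1 else 1) else 0)
    (hc : cm x = sel Gc (E % 524288)) : ∃ i e, i < 4096 ∧ e < 4 ∧ RuLat.frameMask.testBit i = false ∧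
      x = gI ^ e • RuLat.vec i := by
  have hy : Nat.land E 524287 = E % 524288 := Nat.and_two_pow_sub_one_eq_mod E 19
  rw [wordOK, strict_eq, strict_eq, strict_eq, hy, ← hc] at hE
  obtain ⟨h1, hE⟩ := and_of_cond hE
  rw [strict_eq, strict_eq] at hE
  have hT := Nat.eq_of_beq_eq_true hE
  have h16 : pc 56 (cm x) = 16 := Nat.eq_of_beq_eq_true h1
  rw [pc_eq] at h16
  have hsub := fm_sub h
  have hl : Cc.length = 56 := rfl
  have hlt : comp 56 (cm x) (fm x) < 2 ^ 16 := by
    have := comp_lt 56 (cm x) (fm x)
    rwa [h16] at this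
  have hlen : (pick Cc (cm x)).length ≤ 16 := by
    rw [pick_length, hl, h16]
  have hsel : sel (pick Cc (cm x)) (comp 56 (cm x) (fm x)) = sigp (cm x) := by
    rw [sigp_eq, ← sel_eq_sigl cols_c hx]
    exact (sel_pick Cc (cm x) (fm x) (by rw [hl]; exact hsub)).symm
  have h2 := eqT_spec 16 _ _ 19 _ hlt hlen hsel
  have h3 : (known (cm x) 40 (Nat.shiftRight E 19)).testBit (comp 56 (cm x) (fm x)) = true := by
    rw [← hT] at h2
    have h4 : (eqT 16 (pick Cc (cm x)) (sigp (cm x)) 19 &&& known (cm x) 40 (Nat.shiftRight E 19)).testBit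
      (comp 56 (cm x) (fm x)) = true := h2
    rw [Nat.testBit_and, Bool.and_eq_true] at h4
    exact h4.2
  obtain ⟨i, e, f', hi, he, hfr, hrep, hcomp⟩ := known_spec _ _ _ _ h3
  refine ⟨i, e, hi, he, hfr, ?_⟩
  have hf' : Rep (gI ^ e • RuLat.vec i) (cm x) (Nat.land f' (cm x)) := by
    intro q hq
    rw [hrep q hq]
    have : (f' &&& cm x).testBit q = (f'.testBit q && (cm x).testBit q) := Nat.testBit_and ..
    have e1 : (Nat.land f' (cm x)).testBit q = (f'.testBit q && (cm x).testBit q) := this
    rw [e1]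
    cases (cm x).testBit q <;> cases f'.testBit q <;> rfl
  have hcomp' : ∀ n c f, comp n c (Nat.land f c) = comp n c f := by
    intro n
    induction n with
    | zero => intro c f; rfl
    | succ n ih =>
      intro c f
      rw [comp_succ, comp_succ]
      have e1 : Nat.land f c / 2 = Nat.land (f / 2) (c / 2) := by
        have : (f &&& c) / 2 = (f / 2) &&& (c / 2) := by
          apply Nat.eq_of_testBit_eq
          intro i
          rw [Nat.testBit_and, ← Nat.testBit_succ, ← Nat.testBit_succ, ← Nat.testBit_succ, Nat.testBit_and]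
        exact this
      rw [e1, ih]
      by_cases h3 : c % 2 = 0
      · rw [if_pos h3, if_pos h3]
      · rw [if_neg h3, if_neg h3]
        have e2 : Nat.land f c % 2 = f % 2 := by
          have h4 : (f &&& c).testBit 0 = (f.testBit 0 && c.testBit 0) := Nat.testBit_and ..
          rw [Nat.testBit_zero, Nat.testBit_zero, Nat.testBit_zero] at h4
          have h5 : c % 2 = 1 := by omega
          rw [h5] at h4
          have e3 : (f &&& c) % 2 = f % 2 := by
            rcases Nat.mod_two_eq_zero_or_one (f &&& c) with a | a <;>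
              rcases Nat.mod_two_eq_zero_or_one f with b | b <;> rw [a, b] at h4 <;> simp_all
          exact e3
        rw [e2]
  refine rep_unique h hf' ?_
  apply comp_inj 56 (cm x) _ _ hsub
  · intro q hq hb
    have e1 : (Nat.land f' (cm x)).testBit q = (f'.testBit q && (cm x).testBit q) := Nat.testBit_and ..
    rw [e1, Bool.and_eq_true] at hb
    exact hb.2
  · rw [hcomp', hcomp]

end Cfsg.Agent.Ru900.SignDef
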