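import Cfsg.Agent.Ru900.Short

/-!
Weight-16 words of the Rudvalis lattice: fast computation of the target of the sign equations, certificates that
the sign equations have no solution.
-/

set_option autoImplicit false
set_option maxRecDepth 100000
set_option exponentiation.threshold 600000
set_option maxHeartbeats 400000

namespace Cfsg.Agent.Ru900.Words

open Cfsg.Spor Cfsg.Agent.Ru900.Coord Cfsg.Agent.Ru900.Pack Cfsg.Agent.Ru900.Data Cfsg.Agent.Ru900.Lat
  Cfsg.Agent.Ru900.Eq Cfsg.Agent.Ru900.TT Cfsg.Agent.Ru900.Data2 Cfsg.Agent.Ru900.Scan Cfsg.Agent.Ru900.Sig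
  Cfsg.Agent.Ru900.Short

/-! ### fast target -/

/-- packed columns of `bc` -/
noncomputable def BQ (q : ℕ) : ℕ := packCol bc q

/-- sum of the entries selected by the bits of `c` -/
noncomputable def sumS (l : List ℕ) : ℕ → ℕ :=
  List.rec (motive := fun _ => ℕ → ℕ) (fun _ => 0)
    (fun g _ ih c => Nat.add (cond (Nat.beq (Nat.land c 1) 0) 0 g) (ih (Nat.shiftRight c 1))) l

theorem sumS_eq (l : List ℕ) (c : ℕ) :
    sumS l c = ∑ q ∈ Finset.range l.length, (c.testBit q).toNat * l.getD q 0 := by
  induction l generalizing c with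
  | nil => rfl
  | cons g l ih =>
    have h : sumS (g :: l) c = cond (Nat.beq (Nat.land c 1) 0) 0 g + sumS l (Nat.shiftRight c 1) := rfl
    have h1 : Nat.land c 1 = c % 2 := Nat.and_two_pow_sub_one_eq_mod c 1
    have h2 : Nat.shiftRight c 1 = c / 2 := Nat.shiftRight_eq_div_pow c 1
    rw [h, ih, List.length_cons, Finset.sum_range_succ', h1, h2, add_comm]
    congr 1
    · refine Finset.sum_congr rfl fun q _ => ?_
      rw [Nat.testBit_succ, List.getD_cons_succ]
    · rw [Nat.testBit_zero, List.getD_cons_zero]
      rcases Nat.mod_two_eq_zero_or_one c with h3 | h3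
      · rw [h3]; simp
      · rw [h3]
        have : Nat.beq 1 0 = false := rfl
        rw [this]; simp

/-- collect the bits `16 j + 1`, `j < n`, of `S` -/
noncomputable def coll (S : ℕ) (n : ℕ) : ℕ :=
  Nat.rec (motive := fun _ => ℕ) 0
    (fun j ih => Nat.lor ih (cond (Nat.beq (Nat.land (Nat.shiftRight S (Nat.add (Nat.mul 16 j) 1)) 1) 0) 0
      (Nat.shiftLeft 1 j))) n

theorem testBit_coll (S n i : ℕ) : (coll S n).testBit i = (decide (i < n) && S.testBit (16 * i + 1)) := by
  induction n with
  | zero => simp [coll]
  | succ n ih =>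
    have h : coll S (n + 1) = coll S n ||| (cond (Nat.beq (Nat.land (Nat.shiftRight S (16 * n + 1)) 1) 0) 0
      (1 <<< n)) := rfl
    have h1 : Nat.beq (Nat.land (Nat.shiftRight S (16 * n + 1)) 1) 0 = !(S.testBit (16 * n + 1)) := by
      have a1 : Nat.shiftRight S (16 * n + 1) = S / 2 ^ (16 * n + 1) := Nat.shiftRight_eq_div_pow _ _
      have a2 : Nat.land (S / 2 ^ (16 * n + 1)) 1 = S / 2 ^ (16 * n + 1) % 2 := Nat.and_two_pow_sub_one_eq_mod _ 1
      rw [a1, a2, Nat.testBit_eq_decide_div_mod_eq]
      rcases Nat.mod_two_eq_zero_or_one (S / 2 ^ (16 * n + 1)) with h3 | h3 <;> rw [h3] <;> rfl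
    rw [h, h1, Nat.testBit_or, ih]
    have h2 : (cond (!(S.testBit (16 * n + 1))) 0 (1 <<< n) : ℕ).testBit i =
        (decide (i = n) && S.testBit (16 * n + 1)) := by
      cases S.testBit (16 * n + 1) with
      | false => simp
      | true =>
        simp only [Bool.not_true, cond_false, Bool.and_true]
        rw [Nat.one_shiftLeft, Nat.testBit_two_pow]
        exact decide_eq_decide.2 eq_comm
    rw [h2]
    by_cases h3 : i = n
    · subst h3; simp
    · by_cases h4 : i < n
      · have : i < n + 1 := by omega
        simp [h3, h4, this]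
      · have : ¬ i < n + 1 := by omega
        simp [h3, h4, this]

/-- literal packed columns -/
noncomputable def BQL : List ℕ :=
  Nat.rec (motive := fun _ => ℕ → List ℕ) (fun _ => [])
    (fun _ ih q => strict (packCol bc q) (fun x => x :: ih (Nat.succ q))) 56 0

theorem chk_BQL : cond (Nat.beq BQL.length 56) (allI BQL (fun q x => Nat.beq x (packCol bc q)) 0) false = true := by
  decide +kernel

theorem BQL_spec : BQL.length = 56 ∧ ∀ q < 56, BQL.getD q 0 = packCol bc q := by
  obtain ⟨h1, h2⟩ := and_of_cond chk_BQL
  have hl : BQL.length = 56 := Nat.eq_of_beq_eq_true h1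
  refine ⟨hl, fun q hq => ?_⟩
  have := allI_spec h2 q (by rw [hl]; exact hq)
  rw [zero_add] at this
  exact Nat.eq_of_beq_eq_true this

/-- fast version of `sigl bc` -/
noncomputable def sigp (c : ℕ) : ℕ := strict (sumS BQL c) (fun S => coll S 19)

theorem chk_dig : allL bc (fun b => allN 56 (fun q => Nat.beq (Nat.land (digF b q) 7) (Nat.land (digF b q) 3)))
    = true := by decide +kernel

theorem len_bc : bc.length = 19 := rfl

theorem sigp_eq (c : ℕ) : sigp c = sigl bc c := by
  rw [sigp, strict_eq]
  apply Nat.eq_of_testBit_eq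
  intro i
  rw [testBit_coll, testBit_sigl, len_bc]
  by_cases hi : i < 19
  · simp only [hi, decide_true, Bool.true_and]
    obtain ⟨hl, hq⟩ := BQL_spec
    have e : sumS BQL c = ∑ j ∈ Finset.range 19, dotA 56 (bc.getD j 0) c * 65536 ^ j := by
      rw [sumS_eq, hl]
      have e1 : ∀ q ∈ Finset.range 56, (c.testBit q).toNat * BQL.getD q 0 =
          ∑ j ∈ Finset.range 19, (dig (bc.getD j 0) q % 4) * (c.testBit q).toNat * 65536 ^ j := by
        intro q hq'
        rw [Finset.mem_range] at hq'
        rw [hq q hq', packCol_eq, len_bc, Finset.mul_sum]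
        refine Finset.sum_congr rfl fun j hj => ?_
        have h1 := allN_spec (allL_spec chk_dig _ (getD_mem (l := bc) (k := j) (by
          rw [len_bc]; exact Finset.mem_range.1 hj))) q hq'
        have h2 := Nat.eq_of_beq_eq_true h1
        rw [digF_eq, land_7, land_3] at h2
        rw [h2]
        ring
      rw [Finset.sum_congr rfl e1, Finset.sum_comm]
      refine Finset.sum_congr rfl fun j _ => ?_
      rw [dotA_eq, Finset.sum_mul]
    have hlt : ∀ j < 19, dotA 56 (bc.getD j 0) c < 65536 := by
      intro j _
      rw [dotA_eq]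
      have : ∑ q ∈ Finset.range 56, (dig (bc.getD j 0) q % 4) * (c.testBit q).toNat ≤
          ∑ q ∈ Finset.range 56, 3 := by
        refine Finset.sum_le_sum fun q _ => ?_
        have h1 := Nat.mod_lt (dig (bc.getD j 0) q) (show 4 > 0 by norm_num)
        cases c.testBit q <;> simp <;> omega
      rw [Finset.sum_const, Finset.card_range] at this
      have h5 : (56 • 3 : ℕ) = 168 := rfl
      rw [h5] at this
      exact lt_of_le_of_lt this (by norm_num)
    rw [testBit_digit _ _ _ (by norm_num), e, digit_sum 19 _ hlt i hi]
  · simp [hi]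

/-! ### certificates -/

/-- truth table of the parity of `y &&& s` -/
noncomputable def lin (n s : ℕ) : ℕ :=
  Nat.rec (motive := fun _ => ℕ) 0
    (fun j ih => cond (Nat.beq (Nat.land (Nat.shiftRight s j) 1) 0) ih (Nat.xor (var n j) ih)) n

theorem beq_land (s j : ℕ) : Nat.beq (Nat.land (Nat.shiftRight s j) 1) 0 = !(s.testBit j) := by
  have a1 : Nat.shiftRight s j = s / 2 ^ j := Nat.shiftRight_eq_div_pow _ _
  have a2 : Nat.land (s / 2 ^ j) 1 = s / 2 ^ j % 2 := Nat.and_two_pow_sub_one_eq_mod _ 1
  rw [a1, a2, Nat.testBit_eq_decide_div_mod_eq]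
  rcases Nat.mod_two_eq_zero_or_one (s / 2 ^ j) with h3 | h3 <;> rw [h3] <;> rfl

theorem testBit_lin (n s i : ℕ) (hi : i < 2 ^ n) :
    (lin n s).testBit i = xorB n (fun j => i.testBit j && s.testBit j) := by
  have main : ∀ m ≤ n, (Nat.rec (motive := fun _ => ℕ) 0
    (fun j ih => cond (Nat.beq (Nat.land (Nat.shiftRight s j) 1) 0) ih (Nat.xor (var n j) ih)) m : ℕ).testBit i =
      xorB m (fun j => i.testBit j && s.testBit j) := by
    intro m
    induction m with
    | zero => intro _; exact Nat.zero_testBit i
    | succ m ih =>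
      intro hm
      have ih' := ih (by omega)
      rw [xorB, ← ih']
      show (cond (Nat.beq (Nat.land (Nat.shiftRight s m) 1) 0) _ (Nat.xor (var n m) _) : ℕ).testBit i = _
      rw [beq_land]
      cases h : s.testBit m with
      | false => simp
      | true =>
        simp only [Bool.not_true, cond_false, Bool.and_true]
        have e : ∀ a b : ℕ, (Nat.xor a b).testBit i = (a.testBit i ^^ b.testBit i) := fun a b => Nat.testBit_xor ..
        rw [e, testBit_var n m i hi (by omega), Bool.xor_comm]
  exact main n le_rfl

/-- complement of a truth table -/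
noncomputable def nlin (n s : ℕ) : ℕ := Nat.xor (ones n) (lin n s)

/-- messages whose codeword vanishes on the selected columns -/
noncomputable def van (l : List ℕ) : ℕ → ℕ → ℕ :=
  List.rec (motive := fun _ => ℕ → ℕ → ℕ) (fun _ a => a)
    (fun g _ ih c a => cond (Nat.beq (Nat.land c 1) 0) (ih (Nat.shiftRight c 1) a)
      (strict (Nat.land a (nlin 19 g)) (fun a' => ih (Nat.shiftRight c 1) a'))) l

theorem van_spec (l : List ℕ) (c a i : ℕ) (hi : i < 2 ^ 19) (h : (van l c a).testBit i = true) :
    a.testBit i = true ∧ ∀ q < l.length, c.testBit q = true →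
      xorB 19 (fun j => i.testBit j && (l.getD q 0).testBit j) = false := by
  induction l generalizing c a with
  | nil => exact ⟨h, fun q hq => absurd hq (by simp)⟩
  | cons g l ih =>
    have h' : (cond (Nat.beq (Nat.land c 1) 0) (van l (Nat.shiftRight c 1) a)
      (strict (Nat.land a (nlin 19 g)) (fun a' => van l (Nat.shiftRight c 1) a'))).testBit i = true := h
    have h1 : Nat.land c 1 = c % 2 := Nat.and_two_pow_sub_one_eq_mod c 1
    have h2 : Nat.shiftRight c 1 = c / 2 := Nat.shiftRight_eq_div_pow c 1
    rw [h1, h2] at h'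
    rcases Nat.mod_two_eq_zero_or_one c with h3 | h3
    · rw [h3] at h'
      obtain ⟨h4, h5⟩ := ih (c / 2) a h'
      refine ⟨h4, fun q hq hc => ?_⟩
      cases q with
      | zero => rw [Nat.testBit_zero, h3] at hc; exact absurd hc (by simp)
      | succ q =>
        rw [List.getD_cons_succ]
        exact h5 q (by simpa using hq) (by rwa [Nat.testBit_succ] at hc)
    · rw [h3] at h'
      have h'' : (strict (Nat.land a (nlin 19 g)) (fun a' => van l (c / 2) a')).testBit i = true := h'
      rw [strict_eq] at h''
      obtain ⟨h4, h5⟩ := ih (c / 2) _ h''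
      have h6 : (a &&& (ones 19 ^^^ lin 19 g)).testBit i = true := h4
      rw [Nat.testBit_and, Nat.testBit_xor, testBit_ones, testBit_lin 19 g i hi, Bool.and_eq_true] at h6
      obtain ⟨h7, h8⟩ := h6
      refine ⟨h7, fun q hq hc => ?_⟩
      cases q with
      | zero =>
        rw [List.getD_cons_zero]
        cases hx : xorB 19 (fun j => i.testBit j && g.testBit j) with
        | false => rfl
        | true => rw [hx, decide_eq_true hi] at h8; exact absurd h8 (by decide)
      | succ q =>
        rw [List.getD_cons_succ]
        exact h5 q (by simpa using hq) (by rwa [Nat.testBit_succ] at hc)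

/-- exchange of the two sums in `⟨i, sel l f⟩` -/
theorem xorB_sel (l : List ℕ) (f i : ℕ) :
    xorB 19 (fun j => i.testBit j && (sel l f).testBit j) =
    xorB l.length (fun q => f.testBit q && xorB 19 (fun j => i.testBit j && (l.getD q 0).testBit j)) := by
  induction l generalizing f with
  | nil =>
    have : sel [] f = 0 := rfl
    rw [this]
    have e : xorB 19 (fun j => i.testBit j && (0 : ℕ).testBit j) = xorB 19 (fun _ => false) :=
      xorB_congr fun j _ => by rw [Nat.zero_testBit, Bool.and_false]
    rw [e, xorB_false]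
    rfl
  | cons g l ih =>
    rw [sel_cons, List.length_cons, xorB_succ' l.length]
    have e : xorB 19 (fun j => i.testBit j && ((bif f.testBit 0 then g else 0) ^^^ sel l (f / 2)).testBit j) =
        (xorB 19 (fun j => i.testBit j && ((bif f.testBit 0 then g else 0) : ℕ).testBit j) ^^
          xorB 19 (fun j => i.testBit j && (sel l (f / 2)).testBit j)) := by
      rw [← xorB_xor]
      apply xorB_congr
      intro j _
      rw [Nat.testBit_xor]
      cases i.testBit j <;> simp
    rw [e, ih]
    congr 1
    · cases hb : f.testBit 0 with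
      | true => simp
      | false =>
        simp only [cond_false, Bool.false_and, Nat.zero_testBit, Bool.and_false]
        exact xorB_false 19
    · apply xorB_congr
      intro q _
      rw [Nat.testBit_succ, List.getD_cons_succ]

/-- certificate: the sign equations of the word `c` are inconsistent -/
noncomputable def incons (c : ℕ) : Bool :=
  strict (sigp c) (fun s => Nat.blt 0 (van Cc c (Nat.land (ones 19) (lin 19 s))))

theorem incons_spec {c : ℕ} (h : incons c = true) {f : ℕ} (hf : ∀ q < 56, f.testBit q = true → c.testBit q = true)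
    (he : sel Cc f = sigl bc c) : False := by
  rw [incons, strict_eq, sigp_eq] at h
  have h1 : van Cc c (Nat.land (ones 19) (lin 19 (sigl bc c))) ≠ 0 := by
    have : 0 < van Cc c (Nat.land (ones 19) (lin 19 (sigl bc c))) := Nat.le_of_ble_eq_true h
    omega
  obtain ⟨i, hi⟩ := Nat.exists_testBit_of_ne_zero h1
  have hlt : i < 2 ^ 19 := by
    by_contra hge
    have key : ∀ (l : List ℕ) (c a : ℕ), a.testBit i = false → (van l c a).testBit i = false := by
      intro l
      induction l with
      | nil => intro c a ha; exact ha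
      | cons g l ih =>
        intro c a ha
        show (cond (Nat.beq (Nat.land c 1) 0) (van l (Nat.shiftRight c 1) a)
          (strict (Nat.land a (nlin 19 g)) (fun a' => van l (Nat.shiftRight c 1) a'))).testBit i = false
        cases Nat.beq (Nat.land c 1) 0 with
        | true => exact ih _ _ ha
        | false =>
          rw [cond_false, strict_eq]
          apply ih
          have : (a &&& nlin 19 g).testBit i = false := by rw [Nat.testBit_and, ha]; rfl
          exact this
    have : (van Cc c (Nat.land (ones 19) (lin 19 (sigl bc c)))).testBit i = false := by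
      apply key
      have : (ones 19 &&& lin 19 (sigl bc c)).testBit i = false := by
        rw [Nat.testBit_and, testBit_ones, decide_eq_false hge]
        rfl
      exact this
    rw [this] at hi
    exact absurd hi (by simp)
  obtain ⟨h2, h3⟩ := van_spec Cc c _ i hlt hi
  have h4 : (ones 19 &&& lin 19 (sigl bc c)).testBit i = true := h2
  rw [Nat.testBit_and, testBit_lin 19 _ i hlt, Bool.and_eq_true] at h4
  have h5 := h4.2
  have hl : Cc.length = 56 := rfl
  rw [← he, xorB_sel, hl] at h5
  have h6 : xorB 56 (fun q => f.testBit q && xorB 19 (fun j => i.testBit j && (Cc.getD q 0).testBit j)) =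
      xorB 56 (fun _ => false) := by
    apply xorB_congr
    intro q hq
    cases hb : f.testBit q with
    | false => rfl
    | true => rw [h3 q (by rw [hl]; exact hq) (hf q hq hb)]; rfl
  rw [h6, xorB_false] at h5
  exact absurd h5 (by simp)

end Cfsg.Agent.Ru900.Words
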